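import Groth.Agent.LimPresLib.ImmStage
import Groth.Agent.AlgSpPts.Descent
import Groth.Agent.AlgSpPts.Sep
import Mathlib.AlgebraicGeometry.AffineSpace

/-!
# Affine schemes of finite type over a locally separated space embed into an affine space
-/

set_option autoImplicit false
set_option backward.isDefEq.respectTransparency false
set_option backward.isDefEq.respectTransparency.types false

universe u

open CategoryTheory Limits Opposite AlgebraicGeometry AlgSp Groth.Agent.AlgSpLib Groth.Agent.AlgSpPts

namespace Groth.Agent.LimPresLib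

variable {S : Scheme.{u}}

/-- A product with a fixed object commutes with cofiltered limits. -/
theorem isLimit_prod {C : Type*} [Category C] [HasBinaryProducts C] {J : Type u} [SmallCategory J] [IsCofiltered J]
    {F : J ⥤ C} {c : Cone F} (hc : IsLimit c) (X : C) :
    Nonempty (IsLimit ((prod.functor.obj X).mapCone c)) := by
  obtain ⟨j₀⟩ := IsCofiltered.nonempty (C := J)
  have hconst : ∀ (s : Cone (F ⋙ prod.functor.obj X)) (j k : J), s.π.app j ≫ prod.fst = s.π.app k ≫ prod.fst := by
    intro s j k
    obtain ⟨l, u, v, -⟩ := IsCofilteredOrEmpty.cone_objs j k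
    rw [← s.w u, ← s.w v]
    simp
  let c₂ : Cone (F ⋙ prod.functor.obj X) → Cone F := fun s =>
    { pt := s.pt
      π := { app := fun j => s.π.app j ≫ prod.snd
             naturality := fun j k φ => by
               dsimp
               rw [Category.id_comp, ← s.w φ]
               simp } }
  exact ⟨{
    lift := fun s => prod.lift (s.π.app j₀ ≫ prod.fst) (hc.lift (c₂ s))
    fac := fun s j => by
      dsimp
      apply prod.hom_ext
      · simpa using hconst s j₀ j
      · simp [c₂]
    uniq := fun s m hm => by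
      apply prod.hom_ext
      · rw [prod.lift_fst, ← hm j₀]
        simp
      · rw [prod.lift_snd]
        refine hc.hom_ext fun j => ?_
        rw [hc.fac]
        simp [c₂, ← hm j] }⟩

theorem isPullback_prod_map_snd {C : Type*} [Category C] [HasBinaryProducts C] (X : C) {P Q : C} (g : P ⟶ Q) :
    IsPullback prod.snd (prod.map (𝟙 X) g) g prod.snd := by
  refine ⟨⟨(prod.map_snd _ _).symm⟩, ⟨PullbackCone.IsLimit.mk _ (fun s => prod.lift (s.snd ≫ prod.fst) s.fst)
    (fun s => prod.lift_snd _ _) (fun s => ?_) (fun s m hm₁ hm₂ => ?_)⟩⟩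
  · apply prod.hom_ext
    · simp
    · simpa using s.condition
  · apply prod.hom_ext
    · rw [prod.lift_fst, ← hm₂]
      simp
    · rw [prod.lift_snd]
      exact hm₁

theorem isPullback_graph {C : Type*} [Category C] [HasBinaryProducts C] {X U : C} (f : U ⟶ X) :
    IsPullback f (prod.lift f (𝟙 U)) (Limits.diag X) (prod.map (𝟙 X) f) := by
  refine ⟨⟨by ext <;> simp⟩, ⟨PullbackCone.IsLimit.mk _ (fun s => s.snd ≫ prod.snd) (fun s => ?_) (fun s => ?_)
    (fun s m hm₁ hm₂ => ?_)⟩⟩
  · have h := congrArg (· ≫ prod.snd) s.condition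
    simp at h
    simpa using h.symm
  · apply prod.hom_ext
    · have h₁ := congrArg (· ≫ prod.snd) s.condition
      have h₂ := congrArg (· ≫ prod.fst) s.condition
      simp at h₁ h₂
      rw [Category.assoc, prod.lift_fst, Category.assoc, ← h₁]
      exact h₂
    · simp
  · rw [← hm₂]
    simp

/-- Affine space as an object over the base. -/
noncomputable abbrev aff (n : Type u) (S : Scheme.{u}) : Over S := Over.mk (𝔸(n; S) ↘ S)

/-- The map of affine spaces over the base. -/
noncomputable def affMap {n m : Type u} (i : m → n) : aff n S ⟶ aff m S :=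
  Over.homMk (AffineSpace.reindex i S) (AffineSpace.reindex_over i S)

theorem aff_hom_ext {n : Type u} {T : Over S} {f g : T ⟶ aff n S}
    (h : ∀ i, f.left.appTop (AffineSpace.coord S i) = g.left.appTop (AffineSpace.coord S i)) : f = g :=
  Over.OverMorphism.ext (AffineSpace.hom_ext ((Over.w f).trans (Over.w g).symm) h)

variable (S) (A : Type u)

/-- The affine spaces on the finite subsets of the coordinates. -/
noncomputable def affSys : (Finset A)ᵒᵖ ⥤ Over S where
  obj T := aff {a // a ∈ T.unop} S
  map {T T'} φ := affMap fun a => ⟨a.1, CategoryTheory.leOfHom φ.unop a.2⟩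
  map_id T := Over.OverMorphism.ext (AffineSpace.reindex_id S)
  map_comp {T T' T''} φ ψ := aff_hom_ext fun a => by
    simp [affMap]

/-- The affine space on all coordinates over the system. -/
noncomputable def affCone : Cone (affSys S A) where
  pt := aff A S
  π := { app := fun T => affMap Subtype.val
         naturality := fun T T' φ => aff_hom_ext fun a => by simp [affMap, affSys] }

open Classical in
theorem isLimit_affCone : Nonempty (IsLimit (affCone S A)) := by
  have key : ∀ (s : Cone (affSys S A)) (T : (Finset A)ᵒᵖ) (a : {a // a ∈ T.unop}),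
      (s.π.app T).left.appTop (AffineSpace.coord S a) =
        (s.π.app (op {a.1})).left.appTop (AffineSpace.coord S ⟨a.1, Finset.mem_singleton_self _⟩) := by
    intro s T a
    have φ : T ⟶ op {a.1} := (homOfLE (Finset.singleton_subset_iff.2 a.2)).op
    rw [← s.w φ]
    simp [affSys, affMap]
  let l : ∀ s : Cone (affSys S A), s.pt ⟶ aff A S := fun s =>
    Over.homMk (AffineSpace.homOfVector s.pt.hom fun a =>
      (s.π.app (op {a})).left.appTop (AffineSpace.coord S ⟨a, Finset.mem_singleton_self _⟩))
      (AffineSpace.homOfVector_over _ _)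
  exact ⟨{
    lift := l
    fac := fun s T => aff_hom_ext fun a => by
      refine Eq.trans ?_ (key s T a).symm
      simp [affCone, affMap, l]
    uniq := fun s m hm => aff_hom_ext fun a => by
      refine Eq.trans ?_ (AffineSpace.homOfVector_appTop_coord _ _ _).symm
      rw [← hm (op {a}), Over.comp_left, Scheme.Hom.comp_appTop]
      exact congrArg (m.left.appTop ·) (AffineSpace.reindex_appTop_coord Subtype.val S
        (⟨a, Finset.mem_singleton_self a⟩ : {b // b ∈ ({a} : Finset A)})).symm }⟩

variable {S A}

theorem isAffineHom_affMap {n m : Type u} (i : m → n) : IsAffineHom (affMap (S := S) i).left :=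
  MorphismProperty.of_postcomp (W := @IsAffineHom) (W' := @IsSeparated) _ (𝔸(m; S) ↘ S) inferInstance
    (by
      show IsAffineHom (AffineSpace.reindex i S ≫ 𝔸(m; S) ↘ S)
      rw [AffineSpace.reindex_over]
      infer_instance)

theorem repWith_prod_map {P : MorphismProperty Scheme.{u}} [P.IsStableUnderBaseChange] (X : Sp S) {T T' : Over S}
    (g : T ⟶ T') (h : P g.left) : RepWith P (prod.map (𝟙 X) ((yon S).map g)) :=
  repWith_of_isPullback (isPullback_prod_map_snd X ((yon S).map g)) ((repWith_yon_map_iff _ _).2 h)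

theorem exists_immersion_affineSpace [QuasiSeparatedSpace ↥S] (X : Space S) (hqs : IsQuasiSeparatedSp X.obj)
    (hls : IsLocallySeparatedSp X.obj) (U : Over S) [IsAffine U.left] (f : (yon S).obj U ⟶ X.obj)
    (hf : LocP @LocallyOfFiniteType f) :
    ∃ (n : ℕ) (i : (yon S).obj U ⟶ X.obj ⨯ (yon S).obj (aff (ULift.{u} (Fin n)) S)),
      i ≫ prod.fst = f ∧ RepWith @IsImmersion i := by
  classical
  let A : Type u := Γ(U.left, ⊤)
  let ι : U ⟶ aff A S := Over.homMk (AffineSpace.homOfVector U.hom id) (AffineSpace.homOfVector_over _ _)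
  have hι : IsImmersion ι.left := by
    have : IsClosedImmersion (ι.left ≫ AffineSpace.toSpecMvPoly A S) := by
      refine IsClosedImmersion.of_surjective_of_isAffine _ fun (a : A) => ?_
      refine ⟨(Scheme.ΓSpecIso _).inv (MvPolynomial.X a), ?_⟩
      have := congrFun ((AffineSpace.toSpecMvPolyIntEquiv A).apply_symm_apply (id : A → A)) a
      rw [← AffineSpace.homOfVector_toSpecMvPoly U.hom] at this
      exact this
    exact IsImmersion.of_comp ι.left (AffineSpace.toSpecMvPoly A S)
  let D : (Finset A)ᵒᵖ ⥤ Sp S := (affSys S A ⋙ yon S) ⋙ prod.functor.obj X.obj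
  obtain ⟨hlim⟩ := isLimit_affCone S A
  obtain ⟨hc⟩ := isLimit_prod (isLimitOfPreserves (yon S) hlim) X.obj
  let t : D ⟶ (Functor.const (Finset A)ᵒᵖ).obj X.obj :=
    { app := fun T => prod.fst
      naturality := fun T T' φ => by simp [D] }
  have hT : IsTerminal ((yon S).obj (Over.mk (𝟙 S))) := isTerminalYon S
  have hfst : ∀ n : Type u, RepWith @IsAffineHom (prod.fst : X.obj ⨯ (yon S).obj (aff n S) ⟶ X.obj) := fun n => by
    let g : aff n S ⟶ Over.mk (𝟙 S) := Over.homMk (𝔸(n; S) ↘ S) (Category.comp_id _)
    have sq : IsPullback (prod.snd : X.obj ⨯ (yon S).obj (aff n S) ⟶ _) prod.fst (hT.from _) (hT.from _) :=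
      (IsPullback.of_is_product' (prodIsProd _ _) hT).flip
    rw [hT.hom_ext (hT.from ((yon S).obj (aff n S))) ((yon S).map g)] at sq
    exact repWith_of_isPullback sq
      ((repWith_yon_map_iff _ _).2 (inferInstanceAs (IsAffineHom (𝔸(n; S) ↘ S))))
  let y : (yon S).obj U ⟶ X.obj ⨯ (yon S).obj (aff A S) := prod.lift f ((yon S).map ι)
  have hy : RepWith @IsImmersion y := by
    have e : y = prod.lift f (𝟙 _) ≫ prod.map (𝟙 X.obj) ((yon S).map ι) := by
      exact prod.hom_ext (by simp [y]) (by simp [y])
    rw [e]
    exact repWith_comp (repWith_of_isPullback (isPullback_graph f) hls) (repWith_prod_map X.obj ι hι)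
  obtain ⟨T₀, hT₀⟩ := eventually_immersion X D
    (fun T => isAlgSpace_prod X.property (IsAlgSpace.yon_obj _)) t
    (fun T T' φ => AlgSpDec.isAffineMor_of_repWith le_rfl (repWith_prod_map X.obj _ (isAffineHom_affMap _)))
    _ hc (fun T => AlgSpDec.isQuasiSeparatedSp_of_affine _ (hfst _) hqs) ((ofScheme S).obj U)
    ((isQuasiCompactSp_yon_iff U).2 inferInstance) y hy (op ∅) (by
      have e : y ≫ ((prod.functor.obj X.obj).mapCone ((yon S).mapCone (affCone S A))).π.app (op ∅) ≫
          t.app (op ∅) = f := by simp [y, t]; exact prod.lift_fst _ _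
      exact e.symm ▸ hf)
  let n := T₀.unop.card
  let e : {a // a ∈ T₀.unop} ≃ ULift.{u} (Fin n) := T₀.unop.equivFin.trans Equiv.ulift.symm
  let r : aff {a // a ∈ T₀.unop} S ⟶ aff (ULift.{u} (Fin n)) S := affMap e.symm
  have : IsIso r := ⟨affMap e, aff_hom_ext fun a => by simp [r, affMap],
    aff_hom_ext fun a => by simp [r, affMap]⟩
  refine ⟨n, (y ≫ ((prod.functor.obj X.obj).mapCone ((yon S).mapCone (affCone S A))).π.app T₀) ≫
    prod.map (𝟙 X.obj) ((yon S).map r), by simp [y], ?_⟩
  have : IsIso r.left := inferInstanceAs (IsIso ((Over.forget S).map r))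
  exact repWith_comp (hT₀ T₀ (𝟙 T₀)) (repWith_prod_map X.obj r inferInstance)

end Groth.Agent.LimPresLib
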