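import Groth.Agent.LimPresLib.Space
import Groth.Agent.AlgSpDec.LimHomScheme
import Groth.Agent.AlgSpDec.LimAffineStage

/-!
# Maps from limits of quasi-compact quasi-separated spaces to spaces of finite presentation
-/

set_option autoImplicit false
set_option backward.isDefEq.respectTransparency false
set_option backward.isDefEq.respectTransparency.types false

universe u

open CategoryTheory Limits Opposite AlgebraicGeometry AlgSp Groth.Agent.AlgSpLib Groth.Agent.AlgSpPts
open Groth.Agent.AlgSpDec (exists_limit_square'' exists_affine_atlas quasiCompact_fibreProd exists_desc_of_kernelPair)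

namespace Groth.Agent.LimPresLib

variable {S : Scheme.{u}} {I : Type u} [SmallCategory I] [IsCofiltered I] {D : I ⥤ Sp S} {c : Cone D}

theorem isSys_of_isLimit {J : Type u} [SmallCategory J] [IsCofiltered J] {W : J ⥤ Over S} {cW : Cone W}
    (hcW : IsLimit cW) (hA : IsAffine cW.pt.left) (hWA : ∀ j, IsAffine (W.obj j).left) : IsSys W cW :=
  have := IsCofiltered.isConnected J
  ⟨⟨isLimitOfPreserves (Over.forget S) hcW⟩, hWA, hA⟩

theorem hom_stage_eq {X Y : Sp S} (hX : IsAlgSpace X) (hY : IsAlgSpace Y) {f : X ⟶ Y}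
    (hf : LocP @LocallyOfFinitePresentation f) {J : Type u} [SmallCategory J] [IsCofiltered J] {W : J ⥤ Over S}
    {cW : Cone W} (hs : IsSys W cW) {j : J} (x x' : (yon S).obj (W.obj j) ⟶ X) (hx : x ≫ f = x' ≫ f)
    (hxx : (yon S).map (cW.π.app j) ≫ x = (yon S).map (cW.π.app j) ≫ x') :
    ∃ (k : J) (φ : k ⟶ j), (yon S).map (W.map φ) ≫ x = (yon S).map (W.map φ) ≫ x' := by
  obtain ⟨k, φ, hk⟩ := injLP_of_lfp hX hY f hf W cW hs j (el x) (el x')
    ((app_el f x).trans ((congrArg el hx).trans (app_el f x').symm))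
    ((map_el _ x).trans ((congrArg el hxx).trans (map_el _ x').symm))
  exact ⟨k, φ, el.injective ((map_el _ x).symm.trans (hk.trans (map_el _ x')))⟩

/-- Two maps agreeing on the limit agree at a stage. -/
theorem exists_sp_hom_eq_stage {X Y : Sp S} (hX : IsAlgSpace X) (hY : IsAlgSpace Y) {f : X ⟶ Y}
    (hf : LocP @LocallyOfFinitePresentation f) (hDa : ∀ (i j : I) (φ : i ⟶ j), IsAffineMor (D.map φ))
    (hqc : ∀ i, IsQuasiCompactSp (D.obj i)) (hc : IsLimit c) {i : I} (x x' : D.obj i ⟶ X) (hx : x ≫ f = x' ≫ f)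
    (hxx : c.π.app i ≫ x = c.π.app i ≫ x') : ∃ (k : I) (φ : k ⟶ i), D.map φ ≫ x = D.map φ ≫ x' := by
  obtain ⟨U, a, hU, ha, has⟩ := exists_affine_atlas (hqc i)
  have : IsAffine U.left := hU
  obtain ⟨W, cW, hcW, p, fst, aW, bW, haw, sqW, hwb, hA, hWA, sqj, hfst, hp⟩ :=
    exists_limit_square'' D hDa c hc i a
  let k₁ : CategoryTheory.Over i := CategoryTheory.Over.mk (𝟙 i)
  obtain ⟨k, φ, hk⟩ := hom_stage_eq hX hY hf (isSys_of_isLimit hcW hA hWA) (j := k₁) (aW k₁ ≫ x) (aW k₁ ≫ x')
    (by rw [Category.assoc, Category.assoc]; exact congrArg (aW k₁ ≫ ·) hx) (by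
      rw [← Category.assoc, ← Category.assoc, ← hfst, Category.assoc, Category.assoc]
      exact congrArg (fst ≫ ·) hxx)
  refine ⟨k.left, φ.left, ?_⟩
  have : Epi (aW k) := (Sheaf.isLocallySurjective_iff_epi _).1 (isLocallySurjective_of_etale_surjective
    (repWith_of_isPullback (sqj k).flip ha) (repWith_of_isPullback (sqj k).flip has))
  refine (cancel_epi (aW k)).1 ?_
  rw [reassoc_of% (haw φ), reassoc_of% (haw φ)] at hk
  exact hk

/-- A map from the limit lying over a stage comes from a stage. -/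
theorem exists_sp_hom_stage [QuasiSeparatedSpace ↥S] {X Y : Sp S} (hX : IsAlgSpace X) (hY : IsAlgSpace Y) {f : X ⟶ Y}
    (hf : LocP @LocallyOfFinitePresentation f) (hDa : ∀ (i j : I) (φ : i ⟶ j), IsAffineMor (D.map φ))
    (hqc : ∀ i, IsQuasiCompactSp (D.obj i)) (hqs : ∀ i, IsQuasiSeparatedSp (D.obj i)) (hc : IsLimit c)
    {i₁ : I} (y : D.obj i₁ ⟶ Y) (x : c.pt ⟶ X) (hxy : x ≫ f = c.π.app i₁ ≫ y) :
    ∃ (k : I) (φ : k ⟶ i₁) (z : D.obj k ⟶ X), z ≫ f = D.map φ ≫ y ∧ c.π.app k ≫ z = x := by
  obtain ⟨U, a, hU, ha, has⟩ := exists_affine_atlas (hqc i₁)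
  have : IsAffine U.left := hU
  obtain ⟨W, cW, hcW, p, fst, aW, bW, haw, sqW, hwb, hA, hWA, sqj, hfst, hp⟩ :=
    exists_limit_square'' D hDa c hc i₁ a
  let k₁ : CategoryTheory.Over i₁ := CategoryTheory.Over.mk (𝟙 i₁)
  obtain ⟨j, ψ, gel, hgy, hgx⟩ := surjLP_of_lfp hX hY f hf W cW (isSys_of_isLimit hcW hA hWA) k₁
    (el (aW k₁ ≫ y)) (el (fst ≫ x)) (by
      refine (app_el f _).trans ((congrArg el ?_).trans (map_el _ _).symm)
      rw [Category.assoc, hxy]
      exact (reassoc_of% (hfst k₁)) y)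
  obtain ⟨g, rfl⟩ := el.surjective gel
  have hgf : g ≫ f = aW j ≫ D.map j.hom ≫ y := by
    have h1 : g ≫ f = (yon S).map (W.map ψ) ≫ aW k₁ ≫ y :=
      el.injective ((app_el f g).symm.trans (hgy.trans (map_el _ _)))
    rw [h1, reassoc_of% (haw ψ), show ψ.left = j.hom from (Category.comp_id _).symm.trans (CategoryTheory.Over.w ψ)]
  have hg' : (yon S).map (cW.π.app j) ≫ g = fst ≫ x := el.injective ((map_el _ g).symm.trans hgx)
  -- cover the self product of the chart at `j`
  have hje : RepWith @Etale (aW j) := repWith_of_isPullback (sqj j).flip ha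
  have hjs : RepWith @Surjective (aW j) := repWith_of_isPullback (sqj j).flip has
  let R := hje.rep.pullback (aW j)
  have sR : IsPullback ((yon S).map (hje.rep.fst' (aW j))) ((yon S).map (hje.rep.snd (aW j))) (aW j) (aW j) :=
    hje.rep.isPullback' (aW j)
  have : IsAffine (W.obj j).left := hWA j
  have : QuasiCompact (hje.rep.snd (aW j)).left := quasiCompact_fibreProd (hqs j.left) sR
  have : CompactSpace ↥R.left := QuasiCompact.compactSpace_of_compactSpace (hje.rep.snd (aW j)).left
  obtain ⟨Z', r, hZ', hr, hrs⟩ := exists_affine_atlas ((isQuasiCompactSp_yon_iff R).2 inferInstance)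
  have : IsAffine Z'.left := hZ'
  obtain ⟨r', rfl⟩ := (yon S).map_surjective r
  obtain ⟨t, ht⟩ : ∃ t, t = r' ≫ hje.rep.fst' (aW j) := ⟨_, rfl⟩
  obtain ⟨s, hs⟩ : ∃ s, s = r' ≫ hje.rep.snd (aW j) := ⟨_, rfl⟩
  have hts : (yon S).map t ≫ aW j = (yon S).map s ≫ aW j := by
    rw [ht, hs, Functor.map_comp, Functor.map_comp, Category.assoc, Category.assoc, sR.w]
  obtain ⟨W', cW', hcW', p', fst', aW', bW', haw', sqW', hwb', hA', hWA', sqj', hfst', hp'⟩ :=
    exists_limit_square'' D hDa c hc j.left ((yon S).map t ≫ aW j)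
  -- the two maps agree in the limit
  have hsk : IsPullback fst ((yon S).map (cW.π.app j)) (c.π.app j.left) (aW j) := by
    refine IsPullback.of_bot ?_ (hfst j) (sqj j)
    rw [← Functor.map_comp, ← hp j, c.w]
    exact sqW
  have hlim : (yon S).map p' ≫ (yon S).map t ≫ g = (yon S).map p' ≫ (yon S).map s ≫ g := by
    have e₁ : fst' ≫ c.π.app j.left = ((yon S).map p' ≫ (yon S).map t) ≫ aW j := by
      rw [sqW'.w, Category.assoc]
    have e₂ : fst' ≫ c.π.app j.left = ((yon S).map p' ≫ (yon S).map s) ≫ aW j := by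
      rw [sqW'.w, hts, Category.assoc]
    have f₁ := hsk.lift_snd _ _ e₁
    have f₂ := hsk.lift_snd _ _ e₂
    rw [← Category.assoc, ← Category.assoc, ← f₁, ← f₂, Category.assoc, Category.assoc, hg', ← Category.assoc,
      ← Category.assoc, hsk.lift_fst, hsk.lift_fst]
  let k₀ : CategoryTheory.Over j.left := CategoryTheory.Over.mk (𝟙 j.left)
  obtain ⟨k, φ₀, hk⟩ := hom_stage_eq hX hY hf (isSys_of_isLimit hcW' hA' hWA') (j := k₀)
    ((yon S).map (bW' k₀ ≫ t) ≫ g) ((yon S).map (bW' k₀ ≫ s) ≫ g) (by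
      rw [Category.assoc, Category.assoc, hgf, Functor.map_comp, Functor.map_comp, Category.assoc, Category.assoc,
        reassoc_of% hts]) (by
      rw [← Functor.map_comp_assoc, ← Functor.map_comp_assoc, ← Category.assoc, ← Category.assoc, ← hp' k₀]
      simpa only [Functor.map_comp, Category.assoc] using hlim)
  rw [← Functor.map_comp_assoc, ← Functor.map_comp_assoc, reassoc_of% (hwb' φ₀), reassoc_of% (hwb' φ₀)] at hk
  -- descend at the stage `k`
  let l : CategoryTheory.Over i₁ := CategoryTheory.Over.mk (k.hom ≫ j.hom)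
  let φ : l ⟶ j := CategoryTheory.Over.homMk k.hom rfl
  have sφ : IsPullback (aW l) ((yon S).map (W.map φ)) (D.map k.hom) (aW j) := by
    refine IsPullback.of_bot ?_ (haw φ).symm (sqj j)
    rw [← Functor.map_comp, hwb, ← D.map_comp]
    exact sqj l
  have hle : RepWith @Etale (aW l) := repWith_of_isPullback (sqj l).flip ha
  have hls : RepWith @Surjective (aW l) := repWith_of_isPullback (sqj l).flip has
  have sRl : IsPullback ((yon S).map (hle.rep.fst' (aW l))) ((yon S).map (hle.rep.snd (aW l))) (aW l) (aW l) :=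
    hle.rep.isPullback' (aW l)
  let tl := hle.rep.fst' (aW l)
  let sl := hle.rep.snd (aW l)
  have hm : ((yon S).map (tl ≫ W.map φ)) ≫ aW j = (yon S).map (sl ≫ W.map φ) ≫ aW j := by
    rw [Functor.map_comp, Functor.map_comp, Category.assoc, Category.assoc, ← sφ.w, ← Category.assoc, sRl.w,
      Category.assoc]
  -- the self product at the stage is covered by the base change of the cover
  let m := sR.lift _ _ hm
  let w : (yon S).obj (hle.rep.pullback (aW l)) ⟶ D.obj k.left := (yon S).map tl ≫ aW l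
  have hcond : (pullback.fst m ((yon S).map r') ≫ w) ≫ D.map k.hom = pullback.snd m ((yon S).map r') ≫
      (yon S).map t ≫ aW j := by
    have e : w ≫ D.map k.hom = m ≫ (yon S).map (hje.rep.fst' (aW j)) ≫ aW j := by
      rw [sR.lift_fst_assoc, Functor.map_comp, Category.assoc, Category.assoc, sφ.w]
    rw [Category.assoc, e, pullback.condition_assoc, ht, Functor.map_comp, Category.assoc]
  let n := (sqj' k).lift _ _ hcond
  have hn : n ≫ (yon S).map (bW' k) = pullback.snd m ((yon S).map r') := (sqj' k).lift_snd _ _ _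
  have hep : Epi (pullback.fst m ((yon S).map r')) := by
    have sQ := IsPullback.of_hasPullback m ((yon S).map r')
    have he' : RepWith @Etale (pullback.fst m ((yon S).map r')) := repWith_of_isPullback sQ.flip hr
    have hs' : RepWith @Surjective (pullback.fst m ((yon S).map r')) := repWith_of_isPullback sQ.flip hrs
    exact (Sheaf.isLocallySurjective_iff_epi _).1 (isLocallySurjective_of_etale_surjective he' hs')
  have hdesc : (yon S).map tl ≫ (yon S).map (W.map φ) ≫ g = (yon S).map sl ≫ (yon S).map (W.map φ) ≫ g := by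
    refine (cancel_epi (pullback.fst m ((yon S).map r'))).1 ?_
    have e₁ : pullback.fst m ((yon S).map r') ≫ (yon S).map tl ≫ (yon S).map (W.map φ) ≫ g =
        n ≫ (yon S).map (bW' k ≫ t) ≫ g := by
      simp only [ht, Functor.map_comp, Category.assoc]
      rw [reassoc_of% hn, ← pullback.condition_assoc, sR.lift_fst_assoc, Functor.map_comp, Category.assoc]
    have e₂ : pullback.fst m ((yon S).map r') ≫ (yon S).map sl ≫ (yon S).map (W.map φ) ≫ g =
        n ≫ (yon S).map (bW' k ≫ s) ≫ g := by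
      simp only [hs, Functor.map_comp, Category.assoc]
      rw [reassoc_of% hn, ← pullback.condition_assoc, sR.lift_snd_assoc, Functor.map_comp, Category.assoc]
    rw [e₁, e₂, hk]
  have := isLocallySurjective_of_etale_surjective hle hls
  obtain ⟨zi, hzi⟩ := exists_desc_of_kernelPair sRl ((yon S).map (W.map φ) ≫ g) hdesc
  have hle' : Epi (aW l) := (Sheaf.isLocallySurjective_iff_epi _).1 this
  refine ⟨k.left, k.hom ≫ j.hom, zi, ?_, ?_⟩
  · refine (cancel_epi (aW l)).1 ?_
    rw [reassoc_of% hzi, hgf, reassoc_of% (haw φ), D.map_comp, Category.assoc]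
    rfl
  · have hfe : Epi fst := (Sheaf.isLocallySurjective_iff_epi _).1 (isLocallySurjective_of_etale_surjective
      (repWith_of_isPullback sqW.flip ha) (repWith_of_isPullback sqW.flip has))
    rw [← cancel_epi fst, ← Category.assoc]
    rw [show fst ≫ c.π.app k.left = (yon S).map (cW.π.app l) ≫ aW l from hfst l, Category.assoc, hzi,
      ← Category.assoc, ← Functor.map_comp, cW.w, hg']

/-- An affine scheme over a quasi-separated base is quasi-separated. -/
theorem isQuasiSeparatedSp_yon_affine [QuasiSeparatedSpace ↥S] (U : Over S) [IsAffine U.left] :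
    IsQuasiSeparatedSp ((yon S).obj U) := by
  rw [Groth.Agent.AlgSpDec.isQuasiSeparatedSp_yon_iff']
  have : IsSeparated (U.hom ≫ terminal.from S) := by rw [terminal.comp_from]; infer_instance
  have : IsSeparated U.hom := IsSeparated.of_comp U.hom (terminal.from S)
  infer_instance

end Groth.Agent.LimPresLib
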