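import Groth.Agent.AlgSpDec.LimScheme
import Groth.Agent.AlgSpDec.LimEventClosed
import Groth.Agent.AlgSpDec.LimDescentRep
import Groth.Agent.AlgSpDec.PointsSpectral
import Groth.Agent.AlgSpPts.Imm
import Groth.Agent.AlgSpLib.LargestOpen

/-!
# Immersions into a limit of algebraic spaces
-/

set_option autoImplicit false
set_option backward.isDefEq.respectTransparency false
set_option backward.isDefEq.respectTransparency.types false

universe u

open CategoryTheory Limits Opposite AlgebraicGeometry AlgSp Groth.Agent.AlgSpLib Groth.Agent.AlgSpPts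
open Groth.Agent.AlgSpDec (mono_of_openImm exists_affine_atlas isQuasiCompactSp_of_affine isOpenEmbedding_map')

namespace Groth.Agent.LimPresLib

variable {S : Scheme.{u}}

/-- The base change of a system, with the projections of the limit. -/
theorem exists_bc_system {I : Type u} [SmallCategory I] [IsCofiltered I] (D : I ⥤ Sp S) (c : Cone D)
    (hc : IsLimit c) {i₀ : I} {U : Sp S} (g₀ : U ⟶ D.obj i₀) {X : Sp S} {pX : X ⟶ U} {qX : X ⟶ c.pt}
    (sX : IsPullback pX qX g₀ (c.π.app i₀)) :
    ∃ (E : Over i₀ ⥤ Sp S) (π : (Functor.const (Over i₀)).obj X ⟶ E) (_ : IsLimit (Cone.mk X π))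
      (u : ∀ o, E.obj o ⟶ U) (q : ∀ o, E.obj o ⟶ D.obj o.left),
      (∀ o, IsPullback (u o) (q o) g₀ (D.map o.hom)) ∧
      (∀ {o o' : Over i₀} (φ : o ⟶ o'), IsPullback (q o) (E.map φ) (D.map φ.left) (q o')) ∧
      (∀ o, π.app o ≫ q o = qX ≫ c.π.app o.left) := by
  let E : Over i₀ ⥤ Sp S :=
    { obj := fun o => pullback g₀ (D.map o.hom)
      map := fun {o o'} φ => pullback.map _ _ _ _ (𝟙 _) (D.map φ.left) (𝟙 _) (by simp)
        (by rw [Category.comp_id, ← D.map_comp, Over.w φ])
      map_id := fun o => pullback.hom_ext (by simp) (by simp)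
      map_comp := fun φ ψ => pullback.hom_ext (by simp) (by simp) }
  have sqm : ∀ {o o' : Over i₀} (φ : o ⟶ o'),
      IsPullback (pullback.snd g₀ (D.map o.hom)) (E.map φ) (D.map φ.left) (pullback.snd g₀ (D.map o'.hom)) :=
    fun {o o'} φ => by
      refine IsPullback.of_bot ?_ (pullback.lift_snd _ _ _).symm (IsPullback.of_hasPullback g₀ (D.map o'.hom)).flip
      rw [← D.map_comp, Over.w φ, pullback.lift_fst, Category.comp_id]
      exact (IsPullback.of_hasPullback g₀ (D.map o.hom)).flip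
  let cE : Cone E :=
    { pt := X
      π := { app := fun o => pullback.lift pX (qX ≫ c.π.app o.left) (by rw [sX.w, Category.assoc, c.w o.hom])
             naturality := fun o o' φ => pullback.hom_ext (by simp [E]) (by simp [E]) } }
  have := IsCofiltered.isConnected (Over i₀)
  let hc' := (Functor.Initial.isLimitWhiskerEquiv (CategoryTheory.Over.forget i₀) c).symm hc
  let c₂ : Cone E → Cone (CategoryTheory.Over.forget i₀ ⋙ D) := fun s =>
    { pt := s.pt
      π := { app := fun o => s.π.app o ≫ pullback.snd g₀ (D.map o.hom)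
             naturality := fun o o' φ => by
               dsimp
               rw [Category.id_comp, ← s.w φ]
               simp [E] } }
  let top : Over i₀ := Over.mk (𝟙 i₀)
  have hfst : ∀ (s : Cone E) (o o' : Over i₀),
      s.π.app o ≫ pullback.fst g₀ (D.map o.hom) = s.π.app o' ≫ pullback.fst g₀ (D.map o'.hom) := fun s o o' => by
    obtain ⟨l, u, v, -⟩ := IsCofilteredOrEmpty.cone_objs o o'
    rw [← s.w u, ← s.w v]
    simp [E]
  have hcond : ∀ s, (s.π.app top ≫ pullback.fst g₀ (D.map top.hom)) ≫ g₀ = hc'.lift (c₂ s) ≫ c.π.app i₀ := fun s => by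
    refine Eq.trans ?_ (hc'.fac (c₂ s) top).symm
    simp [c₂, top, pullback.condition]
  let hcE : IsLimit cE :=
    { lift := fun s => sX.lift _ _ (hcond s)
      fac := fun s o => pullback.hom_ext (by simp [cE, hfst s o top]) (by
        simp only [cE, Category.assoc, pullback.lift_snd]
        rw [IsPullback.lift_snd_assoc]
        exact hc'.fac (c₂ s) o)
      uniq := fun s l hl => sX.hom_ext (by simp [← hl top, cE])
        (hc'.hom_ext fun o => by
          refine Eq.trans ?_ ((congrArg (· ≫ c.π.app o.left) (sX.lift_snd _ _ (hcond s))).trans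
            (hc'.fac (c₂ s) o)).symm
          simp [c₂, ← hl o, cE]) }
  exact ⟨E, cE.π, hcE, fun o => pullback.fst g₀ (D.map o.hom), fun o => pullback.snd g₀ (D.map o.hom),
    fun o => IsPullback.of_hasPullback _ _, sqm, fun o => pullback.lift_snd _ _ _⟩

/-- A property stable under base change passes to the first factor of a composition with a monomorphism. -/
theorem repWith_of_comp_mono {P : MorphismProperty Scheme.{u}} [P.IsStableUnderBaseChange] {A B C : Sp S}
    {f : A ⟶ B} (j : B ⟶ C) [Mono j] (h : RepWith P (f ≫ j)) : RepWith P f := by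
  refine repWith_of_isPullback (?_ : IsPullback (𝟙 A) f (f ≫ j) j) h
  refine ⟨⟨Category.id_comp _⟩, ⟨PullbackCone.IsLimit.mk _ (fun s => s.fst)
    (fun s => Category.comp_id _) (fun s => ?_) (fun s m hm₁ _ => ?_)⟩⟩
  · rw [← cancel_mono j, Category.assoc]
    exact s.condition
  · simpa using hm₁

theorem isQuasiSeparatedSp_of_openImm {U X : Sp S} {j : U ⟶ X} (hj : RepWith @IsOpenImmersion j)
    (h : IsQuasiSeparatedSp X) : IsQuasiSeparatedSp U := by
  have := mono_of_openImm hj
  rw [isQuasiSeparatedSp_iff_mor, (isTerminalYon S).hom_ext ((isTerminalYon S).from U)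
    (j ≫ (isTerminalYon S).from _)]
  refine isQuasiSeparatedMor_comp ?_ ((isQuasiSeparatedSp_iff_mor _).1 h)
  exact repWith_of_isIso _ _

/-- A compact set of points inside an open one has a quasi-compact open between them. -/
theorem exists_qc_open_between {F : Sp S} (hF : IsAlgSpace F) {K O : Set (Points F)} (hK : IsCompact K)
    (hO : IsOpen O) (hKO : K ⊆ O) : ∃ V, IsOpen V ∧ IsCompact V ∧ K ⊆ V ∧ V ⊆ O := by
  classical
  obtain ⟨U, a, ha, has⟩ := hF.atlas
  let A : Set (Set (Points F)) := {V | IsOpen V ∧ IsCompact V ∧ V ⊆ O}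
  have hcov : K ⊆ ⋃ V : A, (V : Set (Points F)) := by
    intro x hx
    obtain ⟨u, rfl⟩ := surjective_ofPt has x
    obtain ⟨V, hV, huV, hVO⟩ := exists_isAffineOpen_mem_and_subset
      (U := (⟨Points.ofPt a ⁻¹' O, hO.preimage (Points.continuous_ofPt a)⟩ : U.left.Opens)) (x := u) (hKO hx)
    refine Set.mem_iUnion.2 ⟨⟨Points.ofPt a '' (V : Set ↥U.left), isOpenMap_ofPt ha _ V.2,
      hV.isCompact.image (Points.continuous_ofPt a), ?_⟩, ⟨u, huV, rfl⟩⟩
    rintro _ ⟨v, hv, rfl⟩
    exact hVO hv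
  obtain ⟨s, hs⟩ := hK.elim_finite_subcover (fun V : A => (V : Set (Points F))) (fun V => V.2.1) hcov
  exact ⟨⋃ V ∈ s, (V : Set (Points F)), isOpen_biUnion fun V _ => V.2.1,
    s.finite_toSet.isCompact_biUnion fun V _ => V.2.2.1, hs, Set.iUnion₂_subset fun V _ => V.2.2.2⟩

theorem exists_qc_open_subspace {F : Sp S} (hF : IsAlgSpace F) {V : Set (Points F)} (hV : IsOpen V)
    (hVc : IsCompact V) : ∃ (U : Sp S) (j : U ⟶ F), IsAlgSpace U ∧ RepWith @IsOpenImmersion j ∧
      IsQuasiCompactSp U ∧ Set.range (Points.map j) = V := by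
  obtain ⟨U, j, hU, hj, hr⟩ := exists_open_subspace hF hV
  refine ⟨U, j, hU, hj, (AlgSpPts.isQuasiCompactSp_iff hU).2 ⟨?_⟩, hr⟩
  rw [(isOpenEmbedding_map' hF hj).isInducing.isCompact_iff, Set.image_univ, hr]
  exact hVc

/-- A locally closed set is closed in an open one. -/
theorem isOpen_compl_boundary {X : Type*} [TopologicalSpace X] {R : Set X} (h : IsLocallyClosed R) :
    IsOpen (closure R \ R)ᶜ := by
  rw [isLocallyClosed_iff_isOpen_coborder] at h
  exact h

theorem eventually_immersion [QuasiSeparatedSpace ↥S] {I : Type u} [SmallCategory I] [IsCofiltered I]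
    (B : Space S) (D : I ⥤ Sp S) (hD : ∀ i, IsAlgSpace (D.obj i)) (t : D ⟶ (Functor.const I).obj B.obj)
    (hDa : ∀ (i j : I) (φ : i ⟶ j), IsAffineMor (D.map φ)) (c : Cone D) (hc : IsLimit c)
    (hqs : ∀ i, IsQuasiSeparatedSp (D.obj i)) (Y : Space S) (hYqc : IsQuasiCompactSp Y.obj) (y : Y.obj ⟶ c.pt)
    (hy : RepWith @IsImmersion y) (i₁ : I) (hYB : LocP @LocallyOfFiniteType (y ≫ c.π.app i₁ ≫ t.app i₁)) :
    ∃ i₀ : I, ∀ (i : I) (_ : i ⟶ i₀), RepWith @IsImmersion (y ≫ c.π.app i) := by
  have hC : IsAlgSpace c.pt := AlgSpDec.isAlgSpace_limit D hD hDa c hc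
  have hYc : CompactSpace (Points Y.obj) := (AlgSpPts.isQuasiCompactSp_iff Y.property).1 hYqc
  -- a quasi-compact open of the stage containing the image
  obtain ⟨V₁, hV₁o, hV₁c, hV₁, -⟩ := exists_qc_open_between (hD i₁)
    (isCompact_range (Points.continuous_map (y ≫ c.π.app i₁))) isOpen_univ (Set.subset_univ _)
  obtain ⟨W₁, w₁, hW₁, hw₁, hW₁qc, hr₁⟩ := exists_qc_open_subspace (hD i₁) hV₁o hV₁c
  have hX : IsAlgSpace (pullback w₁ (c.π.app i₁)) := isAlgSpace_pullback hW₁ hC (hD i₁) _ _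
  obtain ⟨E, π, hE, u, q, squ, sqm, hπq⟩ :=
    exists_bc_system D c hc w₁ (IsPullback.of_hasPullback w₁ (c.π.app i₁))
  have hqX : RepWith @IsOpenImmersion (pullback.snd w₁ (c.π.app i₁)) :=
    repWith_of_isPullback (IsPullback.of_hasPullback _ _) hw₁
  have := mono_of_openImm hqX
  obtain ⟨y₁, hy₁⟩ := exists_lift_openImmersion Y.property hW₁ (hD i₁) hw₁ (y ≫ c.π.app i₁) (hr₁ ▸ hV₁)
  obtain ⟨y', hy'⟩ : ∃ y', y' = pullback.lift y₁ y hy₁ := ⟨_, rfl⟩
  have hy'q : y' ≫ pullback.snd w₁ (c.π.app i₁) = y := by rw [hy', pullback.lift_snd]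
  have hy'i : RepWith @IsImmersion y' :=
    repWith_of_comp_mono (pullback.snd w₁ (c.π.app i₁)) (by rw [hy'q]; exact hy)
  have hEA : ∀ o, IsAlgSpace (E.obj o) := fun o => isAlgSpace_of_isPullback (squ o) hW₁ (hD o.left) (hD i₁)
  have hEa : ∀ (o o' : Over i₁) (φ : o ⟶ o'), IsAffineMor (E.map φ) :=
    fun o o' φ => isAffineMor_of_isPullback (sqm φ) (hDa _ _ φ.left)
  have hEqc : ∀ o, IsQuasiCompactSp (E.obj o) := fun o => isQuasiCompactSp_of_affine hW₁ (u o)
    (repWith_of_isPullback (squ o).flip (AlgSpDec.repWith_isAffineHom_of_isAffineMor (hDa _ _ o.hom))) hW₁qc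
  have hqo : ∀ o, RepWith @IsOpenImmersion (q o) := fun o => repWith_of_isPullback (squ o) hw₁
  have hEqs : ∀ o, IsQuasiSeparatedSp (E.obj o) := fun o => isQuasiSeparatedSp_of_openImm (hqo o) (hqs o.left)
  -- a quasi-compact open of the limit in which the image is closed
  have hlc : IsLocallyClosed (Set.range (Points.map y')) := isLocallyClosed_range hX hy'i
  obtain ⟨V, hVo, hVc, hRV, hVO⟩ := exists_qc_open_between hX
    (isCompact_range (Points.continuous_map y')) (isOpen_compl_boundary hlc) (fun x hx h => h.2 hx)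
  obtain ⟨U, j, hU, hj, hUqc, hrj⟩ := exists_qc_open_subspace hX hVo hVc
  obtain ⟨y'', hy''⟩ := exists_lift_openImmersion Y.property hU hX hj y' (hrj ▸ hRV)
  have := mono_of_openImm hj
  have hy''i : RepWith @IsImmersion y'' := repWith_of_comp_mono j (by rw [hy'']; exact hy'i)
  have hy''c : RepWith @IsClosedImmersion y'' := by
    refine (repWith_isClosedImmersion_iff hy''i).2 ?_
    have e : Set.range (Points.map y'') = Points.map j ⁻¹' closure (Set.range (Points.map y')) := by
      ext z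
      constructor
      · rintro ⟨x, rfl⟩
        refine subset_closure ⟨x, ?_⟩
        rw [← Points.map_comp, hy'']
      · intro hz
        have hzV : Points.map j z ∈ V := hrj.le ⟨z, rfl⟩
        obtain ⟨x, hx⟩ : Points.map j z ∈ Set.range (Points.map y') := by
          by_contra h
          exact hVO hzV ⟨hz, h⟩
        exact ⟨x, (isOpenEmbedding_map' hX hj).injective (by rw [← Points.map_comp, hy'', hx])⟩
    rw [e]
    exact isClosed_closure.preimage (Points.continuous_map j)
  -- descend the open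
  obtain ⟨k, Uk, jk, qU, hjk, hUkqc, sq⟩ := AlgSpDec.exists_quasiCompact_open_descends E hEA hEa hEqs
    ⟨_, π⟩ hE (Over.mk (𝟙 i₁)) (hEqc _) j hj hUqc
  have hUk : IsAlgSpace Uk := AlgSpDec.isAlgSpace_of_representable (hEA k) jk hjk.rep
  obtain ⟨E₂, π₂, hE₂, u₂, q₂, squ₂, sqm₂, hπq₂⟩ := exists_bc_system E ⟨_, π⟩ hE jk sq.flip
  have hE₂qc : ∀ o, IsQuasiCompactSp (E₂.obj o) := fun o => isQuasiCompactSp_of_affine hUk (u₂ o)
    (repWith_of_isPullback (squ₂ o).flip (AlgSpDec.repWith_isAffineHom_of_isAffineMor (hEa _ _ o.hom))) hUkqc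
  let t₂ : E₂ ⟶ (Functor.const (Over k)).obj B.obj :=
    { app := fun o => q₂ o ≫ q o.left ≫ t.app o.left.left
      naturality := fun o o' φ => by
        dsimp
        rw [Category.comp_id, reassoc_of% (sqm₂ φ).w.symm, reassoc_of% (sqm φ.left).w.symm]
        simpa using congrArg (fun e => q₂ o ≫ q o.left ≫ e) (t.naturality φ.left.left) }
  have hfac : ∀ o : Over k, y'' ≫ π₂.app o ≫ q₂ o ≫ q o.left = y ≫ c.π.app o.left.left := fun o => by
    rw [← hy'q, ← hy'', Category.assoc, Category.assoc, ← hπq o.left, reassoc_of% (hπq₂ o)]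
  obtain ⟨o₀, ho₀⟩ := AlgSpDec.eventually_closedImmersion B E₂ t₂
    (fun o o' φ => isAffineMor_of_isPullback (sqm₂ φ) (hEa _ _ φ.left)) ⟨_, π₂⟩ hE₂ hE₂qc Y y'' hy''c
    (Over.mk (𝟙 k)) (by
      let o : Over k := Over.mk (𝟙 k)
      have e : y'' ≫ π₂.app o ≫ t₂.app o = y ≫ c.π.app i₁ ≫ t.app i₁ := by
        have h1 : c.π.app o.left.left ≫ t.app o.left.left = c.π.app i₁ ≫ t.app i₁ := by
          rw [← c.w o.left.hom, Category.assoc]
          have := t.naturality o.left.hom
          dsimp at this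
          rw [Category.comp_id] at this
          exact (congrArg (c.π.app o.left.left ≫ ·) this).symm
        show y'' ≫ π₂.app o ≫ q₂ o ≫ q o.left ≫ t.app o.left.left = _
        rw [reassoc_of% (hfac o), h1]
      exact e.symm ▸ hYB)
  refine ⟨o₀.left.left, fun i φ => ?_⟩
  let k' : Over i₁ := Over.mk (φ ≫ o₀.left.hom)
  let ψ : k' ⟶ o₀.left := Over.homMk φ rfl
  let o' : Over k := Over.mk (ψ ≫ o₀.hom)
  have h := ho₀ o' (Over.homMk ψ rfl)
  rw [show y ≫ c.π.app i = (y'' ≫ π₂.app o') ≫ q₂ o' ≫ q k' from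
    (hfac o').symm.trans (Category.assoc _ _ _).symm]
  exact repWith_comp (repWith_mono (fun _ _ g (_ : IsClosedImmersion g) => (inferInstance : IsImmersion g)) _ h)
    (repWith_mono (fun _ _ g (_ : IsOpenImmersion g) => (inferInstance : IsImmersion g)) _
      (repWith_comp (repWith_of_isPullback (squ₂ o') hjk) (hqo k')))

end Groth.Agent.LimPresLib
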