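import Groth.Agent.AlgSpDec.LimAffineModel
import Mathlib.RingTheory.Extension.Presentation.Core

/-!
# Affine morphisms of finite presentation come from models of finite type over the integers
-/

set_option autoImplicit false
set_option backward.isDefEq.respectTransparency false
set_option backward.isDefEq.respectTransparency.types false

universe u

open CategoryTheory Limits AlgebraicGeometry TensorProduct

namespace Groth.Agent.LimPresLib

set_option maxHeartbeats 800000 in
/-- An affine morphism of finite presentation between affine schemes is pulled back from one of finite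
presentation over the integers. -/
theorem exists_fp_affine_model {U T : Scheme.{u}} [IsAffine U] [IsAffine T] (π : U ⟶ T)
    [LocallyOfFinitePresentation π] :
    ∃ (Y U₀ : Scheme.{u}) (q : T ⟶ Y) (π₀ : U₀ ⟶ Y) (q' : U ⟶ U₀), IsAffine U₀ ∧ IsAffine Y ∧
      LocallyOfFinitePresentation π₀ ∧ LocallyOfFinitePresentation (terminal.from Y) ∧
      IsPullback q' π π₀ q := by
  let A := Γ(T, ⊤)
  let B := Γ(U, ⊤)
  have hfp : π.appTop.hom.FinitePresentation :=
    (HasRingHomProperty.iff_of_isAffine (P := @LocallyOfFinitePresentation)).1 ‹_›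
  let _ := π.appTop.hom.toAlgebra
  have : Algebra.FinitePresentation A B := hfp
  let P := Algebra.Presentation.ofFinitePresentation A B
  let A₀ : Subalgebra ℤ A := P.core
  have hA₀ : A₀.FG := Subalgebra.fg_def.2 ⟨_, P.finite_coeffs, rfl⟩
  have : P.HasCoeffs A₀ := ⟨fun a ha => ⟨⟨a, P.coeffs_subset_core ha⟩, rfl⟩⟩
  let B₀ := P.ModelOfHasCoeffs A₀
  let e : A ⊗[A₀] B₀ ≃ₐ[A] B := P.tensorModelOfHasCoeffsEquiv A₀
  let π₀ := Spec.map (CommRingCat.ofHom (algebraMap A₀ B₀))
  have hπ₀ : LocallyOfFinitePresentation π₀ :=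
    (LocallyOfFinitePresentation.SpecMap_iff _).2
      (RingHom.finitePresentation_algebraMap.mpr inferInstance)
  have sq0 :=
    (isPullback_SpecMap_of_isPushout _ _ _ _ (CommRingCat.isPushout_tensorProduct A₀ A B₀)).flip
  let eU : U ⟶ Spec (CommRingCat.of (A ⊗[A₀] B₀)) :=
    U.isoSpec.hom ≫ Spec.map (CommRingCat.ofHom (R := A ⊗[A₀] B₀) (S := B) e.toAlgHom.toRingHom)
  let eR : (A ⊗[A₀] B₀) ≃+* B := e.toRingEquiv
  let eC : CommRingCat.of (A ⊗[A₀] B₀) ≅ CommRingCat.of B := eR.toCommRingCatIso
  have : IsIso (CommRingCat.ofHom (R := A ⊗[A₀] B₀) (S := B) e.toAlgHom.toRingHom) := by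
    have := eC.isIso_hom
    exact this
  have : IsIso eU := inferInstance
  have heU : eU ≫ Spec.map (CommRingCat.ofHom (Algebra.TensorProduct.includeLeftRingHom (R := A₀) (A := A) (B := B₀))) =
      π ≫ T.isoSpec.hom := by
    change (U.isoSpec.hom ≫ _) ≫ _ = _
    rw [Category.assoc, ← Spec.map_comp]
    refine Eq.trans ?_ (Scheme.isoSpec_hom_naturality π)
    refine congrArg (fun r => U.isoSpec.hom ≫ Spec.map r) (CommRingCat.hom_ext (RingHom.ext fun a => ?_))
    exact e.commutes a
  refine ⟨_, _, T.isoSpec.hom ≫ Spec.map (CommRingCat.ofHom (algebraMap A₀ A)), π₀, _, inferInstance, inferInstance,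
    hπ₀, AlgSpDec.locallyOfFinitePresentation_terminal_of_fg A₀ hA₀,
    (IsPullback.of_horiz_isIso ⟨heU⟩).paste_horiz sq0⟩

end Groth.Agent.LimPresLib
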