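import Groth.Agent.LimPresLib.Sys
import Groth.Agent.LimPresLib.FpColim

/-!
# Schemes: stages of morphisms over a scheme, and the criterion for local finite presentation
-/

set_option autoImplicit false
set_option backward.isDefEq.respectTransparency false
set_option backward.isDefEq.respectTransparency.types false

universe u

open CategoryTheory Limits Opposite AlgebraicGeometry Groth.Agent.MorLib

namespace Groth.Agent.LimPresLib

variable {S : Scheme.{u}}

/-- A point over a stage of a scheme locally of finite presentation comes from a stage. -/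
theorem exists_stage_over {I : Type u} [SmallCategory I] [IsCofiltered I] {D : I ⥤ Over S} {c : Cone D}
    (h : IsSys D c) {i : I} {Z V : Over S} (g : Z ⟶ V) [LocallyOfFinitePresentation g.left]
    (v : D.obj i ⟶ V) (z : c.pt ⟶ Z) (hz : z ≫ g = c.π.app i ≫ v) :
    ∃ (k : I) (f : k ⟶ i) (z' : D.obj k ⟶ Z), z' ≫ g = D.map f ≫ v ∧ c.π.app k ≫ z' = z := by
  obtain ⟨hc⟩ := h.lim
  let E : CategoryTheory.Over i ⥤ Scheme.{u} := CategoryTheory.Over.forget i ⋙ D ⋙ Over.forget S
  have : ∀ k, IsAffine (E.obj k) := fun k => h.aff k.left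
  have : ∀ {k l : CategoryTheory.Over i} (φ : k ⟶ l), IsAffineHom (E.map φ) := fun φ => isAffineHom_map h φ.left
  have := IsCofiltered.isConnected (CategoryTheory.Over i)
  obtain ⟨k, z', hz', hz''⟩ := Scheme.exists_π_app_comp_eq_of_locallyOfFinitePresentation E
    { app := fun k => (D.map k.hom ≫ v).left
      naturality := fun k l φ => by
        change (D.map φ.left).left ≫ (D.map l.hom ≫ v).left = (D.map k.hom ≫ v).left ≫ 𝟙 _
        rw [Category.comp_id, ← Over.comp_left, ← Category.assoc, ← D.map_comp, Over.w φ] }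
    g.left (((Over.forget S).mapCone c).whisker (CategoryTheory.Over.forget i))
    ((Functor.Initial.isLimitWhiskerEquiv (CategoryTheory.Over.forget i) _).symm hc) z.left (by
      ext k
      change (c.π.app k.left).left ≫ (D.map k.hom ≫ v).left = z.left ≫ g.left
      rw [← Over.comp_left, ← Over.comp_left, hz, ← Category.assoc, c.w])
  refine ⟨k.left, k.hom, Over.homMk z' ?_, Over.OverMorphism.ext hz'', Over.OverMorphism.ext hz'⟩
  rw [← Over.w g, ← Category.assoc, hz'']
  exact Over.w (D.map k.hom ≫ v)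

/-- Two maps over a stage to a scheme locally of finite type agreeing in the limit agree at a stage. -/
theorem exists_stage_eq {I : Type u} [SmallCategory I] [IsCofiltered I] {D : I ⥤ Over S} {c : Cone D}
    (h : IsSys D c) {i : I} {Z V : Over S} (g : Z ⟶ V) [LocallyOfFiniteType g.left]
    (u u' : D.obj i ⟶ Z) (hu : u ≫ g = u' ≫ g) (hpt : c.π.app i ≫ u = c.π.app i ≫ u') :
    ∃ (k : I) (f : k ⟶ i), D.map f ≫ u = D.map f ≫ u' := by
  obtain ⟨hc⟩ := h.lim
  let E : CategoryTheory.Over i ⥤ Scheme.{u} := CategoryTheory.Over.forget i ⋙ D ⋙ Over.forget S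
  have : ∀ k, IsAffine (E.obj k) := fun k => h.aff k.left
  have : ∀ {k l : CategoryTheory.Over i} (φ : k ⟶ l), IsAffineHom (E.map φ) := fun φ => isAffineHom_map h φ.left
  have := IsCofiltered.isConnected (CategoryTheory.Over i)
  let k₁ : CategoryTheory.Over i := CategoryTheory.Over.mk (𝟙 i)
  obtain ⟨k, φ, hk⟩ := Scheme.exists_hom_comp_eq_comp_of_locallyOfFiniteType E
    { app := fun k => (D.map k.hom ≫ u ≫ g).left
      naturality := fun k l φ => by
        change (D.map φ.left).left ≫ (D.map l.hom ≫ u ≫ g).left = (D.map k.hom ≫ u ≫ g).left ≫ 𝟙 _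
        rw [Category.comp_id, ← Over.comp_left, ← Category.assoc, ← D.map_comp, Over.w φ] }
    g.left (((Over.forget S).mapCone c).whisker (CategoryTheory.Over.forget i))
    ((Functor.Initial.isLimitWhiskerEquiv (CategoryTheory.Over.forget i) _).symm hc) (i := k₁) u.left u'.left
    (by change (D.map (𝟙 i) ≫ u ≫ g).left = u.left ≫ g.left; rw [D.map_id, Category.id_comp, Over.comp_left])
    (by change (D.map (𝟙 i) ≫ u ≫ g).left = u'.left ≫ g.left; rw [D.map_id, Category.id_comp, hu, Over.comp_left])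
    (congrArg CommaMorphism.left hpt :)
  exact ⟨k.left, φ.left, Over.OverMorphism.ext hk⟩

/-- A morphism of schemes lifting points from limits of affine schemes to stages is locally of finite
presentation. -/
theorem locallyOfFinitePresentation_of_surj {U V : Over S} (g : U ⟶ V)
    (H : ∀ ⦃I : Type u⦄ [SmallCategory I] [IsCofiltered I] (D : I ⥤ Over S) (c : Cone D), IsSys D c →
      ∀ (u : c.pt ⟶ U) (i : I) (v : D.obj i ⟶ V), u ≫ g = c.π.app i ≫ v →
        ∃ (k : I) (f : k ⟶ i) (z : D.obj k ⟶ U), z ≫ g = D.map f ≫ v ∧ c.π.app k ≫ z = u) :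
    LocallyOfFinitePresentation g.left := by
  rw [HasRingHomProperty.iff_appLE (P := @LocallyOfFinitePresentation)]
  rintro ⟨V₀, hV₀⟩ ⟨W₀, hW₀⟩ e
  let A := Γ(V.left, V₀)
  let B := Γ(U.left, W₀)
  let φ : A ⟶ B := g.left.appLE V₀ W₀ e
  let _ := φ.hom.toAlgebra
  show Algebra.FinitePresentation A B
  obtain ⟨hcol⟩ := nonempty_isColimit_fpCocone A B
  let alg : ∀ x : FpIdx A B, A ⟶ CommRingCat.of x.Alg := fun x => CommRingCat.ofHom (algebraMap A x.Alg)
  let base : ∀ x : FpIdx A B, Spec (CommRingCat.of x.Alg) ⟶ S := fun x =>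
    Spec.map (alg x) ≫ hV₀.fromSpec ≫ V.hom
  let D : (FpIdx A B)ᵒᵖ ⥤ Over S :=
    { obj := fun x => Over.mk (base x.unop)
      map := fun {x y} f => Over.homMk (Spec.map ((fpDiag A B).map f.unop)) (by
        change Spec.map ((fpDiag A B).map f.unop) ≫ Spec.map (alg y.unop) ≫ _ = base x.unop
        rw [← Spec.map_comp_assoc]
        refine congrArg (fun r => Spec.map r ≫ hV₀.fromSpec ≫ V.hom) (CommRingCat.hom_ext (RingHom.ext fun a => ?_))
        exact (FpIdx.trans (leOfHom f.unop)).commutes a)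
      map_id := fun x => Over.OverMorphism.ext (by
        change Spec.map ((fpDiag A B).map (𝟙 x.unop)) = 𝟙 _
        rw [CategoryTheory.Functor.map_id]; exact Spec.map_id _)
      map_comp := fun f f' => Over.OverMorphism.ext (by
        change Spec.map ((fpDiag A B).map (f'.unop ≫ f.unop)) = _
        rw [Functor.map_comp, Spec.map_comp]; rfl) }
  let c : Cone D :=
    { pt := Over.mk (Spec.map φ ≫ hV₀.fromSpec ≫ V.hom)
      π :=
        { app := fun x => Over.homMk (Spec.map ((fpCocone A B).ι.app x.unop)) (by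
            change Spec.map ((fpCocone A B).ι.app x.unop) ≫ Spec.map (alg x.unop) ≫ _ = _
            rw [← Spec.map_comp_assoc]
            refine congrArg (fun r => Spec.map r ≫ hV₀.fromSpec ≫ V.hom) (CommRingCat.hom_ext (RingHom.ext fun a => ?_))
            exact x.unop.toB.commutes a)
          naturality := fun x y f => Over.OverMorphism.ext (by
            change 𝟙 _ ≫ Spec.map ((fpCocone A B).ι.app y.unop) =
              Spec.map ((fpCocone A B).ι.app x.unop) ≫ Spec.map ((fpDiag A B).map f.unop)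
            rw [Category.id_comp, ← Spec.map_comp, (fpCocone A B).w]) } }
  have hS : IsSys D c := by
    refine ⟨⟨IsLimit.ofIsoLimit (isLimitOfPreserves Scheme.Spec hcol.op) (Cone.ext (Iso.refl _) fun x => ?_)⟩,
      fun x => inferInstanceAs (IsAffine (Spec _)), inferInstanceAs (IsAffine (Spec _))⟩
    exact (Category.id_comp _).symm
  obtain ⟨x₀⟩ : Nonempty (FpIdx A B) := inferInstance
  let u : c.pt ⟶ U := Over.homMk hW₀.fromSpec (by
    change hW₀.fromSpec ≫ U.hom = Spec.map φ ≫ hV₀.fromSpec ≫ V.hom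
    rw [← Over.w g, ← Category.assoc, ← IsAffineOpen.SpecMap_appLE_fromSpec g.left hV₀ hW₀ e, Category.assoc])
  let v : D.obj (op x₀) ⟶ V := Over.homMk (Spec.map (alg x₀) ≫ hV₀.fromSpec) (by
    exact Category.assoc _ _ _)
  obtain ⟨k, f, z, hz, hzu⟩ := H D c hS u (op x₀) v (Over.OverMorphism.ext (by
    change hW₀.fromSpec ≫ g.left = Spec.map ((fpCocone A B).ι.app x₀) ≫ Spec.map (alg x₀) ≫ hV₀.fromSpec
    rw [← IsAffineOpen.SpecMap_appLE_fromSpec g.left hV₀ hW₀ e, ← Spec.map_comp_assoc]
    refine congrArg (fun r => Spec.map r ≫ hV₀.fromSpec) (CommRingCat.hom_ext (RingHom.ext fun a => ?_))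
    exact (x₀.toB.commutes a).symm))
  -- shrink into the affine open
  obtain ⟨hc⟩ := hS.lim
  have : ∀ j, IsAffine ((D ⋙ Over.forget S).obj j) := hS.aff
  have : ∀ {j l : (FpIdx A B)ᵒᵖ} (ψ : j ⟶ l), IsAffineHom ((D ⋙ Over.forget S).map ψ) := fun ψ => isAffineHom_map hS ψ
  have hW : (((Over.forget S).mapCone c).π.app k) ⁻¹ᵁ (⊤ : ((D ⋙ Over.forget S).obj k).Opens) ≤
      (((Over.forget S).mapCone c).π.app k) ⁻¹ᵁ (z.left ⁻¹ᵁ W₀) := by
    intro p _
    have hp : z.left ((c.π.app k).left p) = hW₀.fromSpec p := by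
      rw [← Scheme.Hom.comp_apply, ← Over.comp_left, hzu]; rfl
    show z.left ((c.π.app k).left p) ∈ W₀
    rw [hp]
    have : hW₀.fromSpec p ∈ Set.range hW₀.fromSpec := ⟨p, rfl⟩
    rwa [hW₀.range_fromSpec] at this
  obtain ⟨l, ψ, hl⟩ := exists_map_preimage_le_map_preimage (D ⋙ Over.forget S) ((Over.forget S).mapCone c) hc
    isCompact_univ hW
  have hrange : Set.range (D.map ψ ≫ z).left ⊆ Set.range hW₀.fromSpec := by
    rintro _ ⟨p, rfl⟩
    rw [hW₀.range_fromSpec]
    exact hl (TopologicalSpace.Opens.mem_top (((D ⋙ Over.forget S).map ψ) p))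
  let z' : Spec (CommRingCat.of l.unop.Alg) ⟶ Spec B := IsOpenImmersion.lift hW₀.fromSpec (D.map ψ ≫ z).left hrange
  have hz' : z' ≫ hW₀.fromSpec = (D.map ψ ≫ z).left := IsOpenImmersion.lift_fac _ _ _
  let sC := Spec.preimage z'
  have hsA : φ ≫ sC = alg l.unop := by
    apply Spec.map_injective
    rw [← cancel_mono hV₀.fromSpec, Spec.map_comp, Spec.map_preimage, Category.assoc,
      IsAffineOpen.SpecMap_appLE_fromSpec g.left hV₀ hW₀ e, ← Category.assoc, hz', ← Over.comp_left, Category.assoc,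
      hz, ← Category.assoc, ← D.map_comp]
    change Spec.map ((fpDiag A B).map (ψ ≫ f).unop) ≫ Spec.map (alg x₀) ≫ hV₀.fromSpec = _
    rw [← Spec.map_comp_assoc]
    refine congrArg (fun r => Spec.map r ≫ hV₀.fromSpec) (CommRingCat.hom_ext (RingHom.ext fun a => ?_))
    exact (FpIdx.trans (leOfHom (ψ ≫ f).unop)).commutes a
  have hsB : sC ≫ (fpCocone A B).ι.app l.unop = 𝟙 B := by
    apply Spec.map_injective
    rw [Spec.map_id, ← cancel_mono hW₀.fromSpec, Spec.map_comp, Spec.map_preimage, Category.assoc, hz']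
    refine Eq.trans ?_ (Category.id_comp _).symm
    change (c.π.app l).left ≫ (D.map ψ ≫ z).left = u.left
    rw [← Over.comp_left, ← Category.assoc, c.w, hzu]
  let s : B →ₐ[A] l.unop.Alg :=
    { sC.hom with commutes' := fun a => congrArg (fun r => r.hom a) hsA }
  exact finitePresentation_of_retract l.unop.toB s fun b => congrArg (fun r => r.hom b) hsB

end Groth.Agent.LimPresLib
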