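import Groth.Agent.LimPresLib.Local
import Groth.Agent.LimPresLib.SchemeCrit
import Groth.Agent.AlgSpLib.EtLocalInst

/-!
# Morphisms of algebraic spaces locally of finite presentation preserve limits
-/

set_option autoImplicit false
set_option backward.isDefEq.respectTransparency false
set_option backward.isDefEq.respectTransparency.types false

universe u

open CategoryTheory Limits Opposite AlgebraicGeometry AlgSp Groth.Agent.MorLib Groth.Agent.AlgSpLib
open Groth.Agent.AlgSpPts (map_map' app_map')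

namespace Groth.Agent.LimPresLib

variable {S : Scheme.{u}}

/-- Elements are morphisms from representables. -/
noncomputable def el {T : Over S} {F : Sp S} : ((yon S).obj T ⟶ F) ≃ F.obj.obj (op T) :=
  (J S).uliftYonedaEquiv

theorem map_el {T T' : Over S} {F : Sp S} (g : T' ⟶ T) (t : (yon S).obj T ⟶ F) :
    F.obj.map g.op (el t) = el ((yon S).map g ≫ t) :=
  (J S).uliftYonedaEquiv_naturality t g

theorem app_el {T : Over S} {F G : Sp S} (a : F ⟶ G) (t : (yon S).obj T ⟶ F) :
    a.hom.app (op T) (el t) = el (t ≫ a) :=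
  ((J S).uliftYonedaEquiv_comp t a).symm

/-- Lifts along a map, as a sieve. -/
def homLiftSieve {F : Sp S} {U : Over S} (a : (yon S).obj U ⟶ F) {T : Over S} (t : (yon S).obj T ⟶ F) : Sieve T where
  arrows Y g := ∃ w : Y ⟶ U, (yon S).map w ≫ a = (yon S).map g ≫ t
  downward_closed {Y Z g} := by
    rintro ⟨w, hw⟩ h
    exact ⟨h ≫ w, by rw [Functor.map_comp, Functor.map_comp, Category.assoc, Category.assoc, hw]⟩

/-- Points lift locally along etale surjective charts. -/
theorem homLiftSieve_mem {F : Sp S} (hF : IsAlgSpace F) {U : Over S} {a : (yon S).obj U ⟶ F}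
    (ha : RepWith @Etale a) (has : RepWith @Surjective a) {T : Over S} (t : (yon S).obj T ⟶ F) :
    homLiftSieve a t ∈ AlgSp.J S T := by
  obtain ⟨κ, Tk, g, hg, hl⟩ := Groth.Agent.AlgSpLib.exists_fppf_local_lift hF
    (fun _ : PUnit.{u + 1} => IsAlgSpace.yon_obj U) (fun _ => a)
    ⟨fun _ => ⟨locP_mono (P := @Etale) (Q := @Flat)
        (fun _ _ f (_ : Etale f) => inferInstanceAs (Flat f)) (locP_of_repWith ha),
      locP_mono (P := @Etale) (Q := @LocallyOfFinitePresentation)
        (fun _ _ f (_ : Etale f) => inferInstanceAs (LocallyOfFinitePresentation f)) (locP_of_repWith ha)⟩,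
      fun z => ⟨⟨⟩, surjective_map_of_repWith has z⟩⟩ T t
  refine GrothendieckTopology.superset_covering _ ?_ hg
  rintro Y g' hg'
  obtain ⟨k, m, rfl⟩ := (Sieve.mem_ofArrows_iff _ _ _).1 hg'
  obtain ⟨-, l, hl⟩ := hl k
  refine ⟨m ≫ (yon S).preimage l, ?_⟩
  rw [Functor.map_comp, Functor.map_preimage, Category.assoc, hl, Functor.map_comp, Category.assoc]

/-- Two lifts over one point of a chart of the target. -/
def pairSieve {X Y : Sp S} (f : X ⟶ Y) {U V : Over S} {b : (yon S).obj V ⟶ Y}
    (a₀ : (yon S).obj U ⟶ pullback f b) (g : U ⟶ V) {T : Over S} (x x' : (yon S).obj T ⟶ X) : Sieve T where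
  arrows T' h := ∃ u u' : T' ⟶ U, u ≫ g = u' ≫ g ∧
    (yon S).map u ≫ a₀ ≫ pullback.fst f b = (yon S).map h ≫ x ∧
    (yon S).map u' ≫ a₀ ≫ pullback.fst f b = (yon S).map h ≫ x'
  downward_closed {T' T'' h} := by
    rintro ⟨u, u', h1, h2, h3⟩ k
    refine ⟨k ≫ u, k ≫ u', by rw [Category.assoc, h1, Category.assoc], ?_, ?_⟩
    · rw [Functor.map_comp, Functor.map_comp, Category.assoc, Category.assoc, h2]
    · rw [Functor.map_comp, Functor.map_comp, Category.assoc, Category.assoc, h3]

theorem injLP_of_lfp {X Y : Sp S} (hX : IsAlgSpace X) (hY : IsAlgSpace Y) (f : X ⟶ Y)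
    (hf : LocP @LocallyOfFinitePresentation f) : InjLP f.hom := by
  intro I _ _ D c h i x x' hx hxx
  obtain ⟨x, rfl⟩ := el.surjective x
  obtain ⟨x', rfl⟩ := el.surjective x'
  have hy : x ≫ f = x' ≫ f := el.injective ((app_el f x).symm.trans (hx.trans (app_el f x')))
  have hxx' : (yon S).map (c.π.app i) ≫ x = (yon S).map (c.π.app i) ≫ x' :=
    el.injective ((map_el _ x).symm.trans (hxx.trans (map_el _ x')))
  obtain ⟨V, b, hb, hbs⟩ := hY.atlas
  obtain ⟨U, a₀, g, ha₀, has₀, hg⟩ := exists_chart_over hX hY f b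
  have haX : RepWith @Etale (a₀ ≫ pullback.fst f b) := repWith_comp ha₀ (repWith_fst f hb)
  have : LocallyOfFinitePresentation g.left :=
    hf _ b g haX hb (by rw [Category.assoc, pullback.condition, ← Category.assoc, hg])
  have hP := isAlgSpace_pullback hX (IsAlgSpace.yon_obj V) hY f b
  -- a cover with lifts
  have hmem : pairSieve f a₀ g x x' ∈ AlgSp.J S (D.obj i) := by
    refine (AlgSp.J S).transitive (homLiftSieve_mem hY hb hbs (x ≫ f)) _ fun T h₁ hh₁ => ?_
    obtain ⟨v, hv⟩ := hh₁
    let t : (yon S).obj T ⟶ pullback f b := pullback.lift ((yon S).map h₁ ≫ x) ((yon S).map v)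
      (by rw [Category.assoc, hv])
    let t' : (yon S).obj T ⟶ pullback f b := pullback.lift ((yon S).map h₁ ≫ x') ((yon S).map v)
      (by rw [Category.assoc, ← hy, hv])
    refine GrothendieckTopology.superset_covering _ ?_
      ((AlgSp.J S).intersection_covering (homLiftSieve_mem hP ha₀ has₀ t) (homLiftSieve_mem hP ha₀ has₀ t'))
    rintro T' k ⟨⟨u, hu⟩, ⟨u', hu'⟩⟩
    refine ⟨u, u', (yon S).map_injective ?_, ?_, ?_⟩
    · rw [Functor.map_comp, Functor.map_comp, ← hg, ← Category.assoc, hu, ← Category.assoc, hu', Category.assoc,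
        Category.assoc, pullback.lift_snd, pullback.lift_snd]
    · rw [← Category.assoc, hu, Category.assoc, pullback.lift_fst, Functor.map_comp, Category.assoc]
    · rw [← Category.assoc, hu', Category.assoc, pullback.lift_fst, Functor.map_comp, Category.assoc]
  have := h.aff i
  obtain ⟨n, W, p, hp, hR⟩ := exists_cov_of_mem hmem
  choose u u' hgu hu hu' using hR
  obtain ⟨W', l, e, he, hsq⟩ := exists_bc h hp
  refine injPatch (sep_of_isSheaf X.property) h hp (el x) (el x') fun m => ?_
  have := hp.aff m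
  have hm := isSys_bc D (p m) (hsq m) h
  let k₁ : CategoryTheory.Over i := CategoryTheory.Over.mk (𝟙 i)
  -- the pair is a point of the self product of the chart
  have hlim : (yon S).map (l m ≫ u m) ≫ a₀ = (yon S).map (l m ≫ u' m) ≫ a₀ := by
    apply pullback.hom_ext
    · rw [Category.assoc, Category.assoc, Functor.map_comp, Functor.map_comp, Category.assoc, Category.assoc,
        hu, hu', ← Functor.map_comp_assoc, ← Functor.map_comp_assoc,
        show l m ≫ p m = e m ≫ c.π.app i from Over.OverMorphism.ext (hsq m).w, Functor.map_comp, Category.assoc,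
        Category.assoc]
      exact congrArg ((yon S).map (e m) ≫ ·) hxx'
    · rw [Category.assoc, Category.assoc, hg, ← Functor.map_comp, ← Functor.map_comp, Category.assoc,
        Category.assoc, hgu]
  let R := ha₀.rep.pullback a₀
  let r₁ : R ⟶ U := ha₀.rep.fst' a₀
  let r₂ : R ⟶ U := ha₀.rep.snd a₀
  have hr : r₁ ≫ g = r₂ ≫ g := (yon S).map_injective (by
    rw [Functor.map_comp, Functor.map_comp, ← hg, ← Category.assoc, ← Category.assoc,
      (ha₀.rep.isPullback' a₀).w])
  have : Etale r₂.left := ha₀.property_snd a₀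
  have : LocallyOfFinitePresentation (r₂ ≫ g).left := by rw [Over.comp_left]; infer_instance
  obtain ⟨w, hw⟩ := (yon S).map_surjective ((ha₀.rep.isPullback' a₀).lift _ _ hlim)
  have hw₁ : w ≫ r₁ = l m ≫ u m := (yon S).map_injective (by
    rw [Functor.map_comp, hw]; exact (ha₀.rep.isPullback' a₀).lift_fst _ _ _)
  have hw₂ : w ≫ r₂ = l m ≫ u' m := (yon S).map_injective (by
    rw [Functor.map_comp, hw]; exact (ha₀.rep.isPullback' a₀).lift_snd _ _ _)
  obtain ⟨k, φ, z, hz, hzw⟩ := exists_stage_over hm (r₂ ≫ g) (i := k₁) (bcFst D (p m) k₁ ≫ u' m ≫ g) w (by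
    rw [← Category.assoc, hw₂, Category.assoc]
    exact (bcπ_fst_assoc D (p m) (hsq m) k₁ _).symm)
  rw [map_bcFst_assoc] at hz
  -- both projections agree with the given lifts at a stage
  obtain ⟨k₂, φ₂, hk₂⟩ := exists_stage_eq hm g (i := k) (z ≫ r₁) (bcFst D (p m) k ≫ u m)
    (by rw [Category.assoc, hr, hz, Category.assoc, hgu])
    (((reassoc_of% hzw) r₁).trans (hw₁.trans (bcπ_fst_assoc D (p m) (hsq m) k (u m)).symm))
  obtain ⟨k₃, φ₃, hk₃⟩ := exists_stage_eq hm g (i := k₂)
    ((bcD D (p m)).map φ₂ ≫ z ≫ r₂) (bcFst D (p m) k₂ ≫ u' m)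
    (by rw [Category.assoc, Category.assoc, hz, map_bcFst_assoc, Category.assoc])
    (((reassoc_of% ((bcC D (p m) (hsq m)).w φ₂)) (z ≫ r₂)).trans
      (((reassoc_of% hzw) r₂).trans (hw₂.trans (bcπ_fst_assoc D (p m) (hsq m) k₂ (u' m)).symm)))
  refine ⟨k₃, ?_⟩
  have h₁ := congrArg (fun q => (bcD D (p m)).map φ₃ ≫ q) hk₂
  simp only [map_bcFst_assoc] at h₁
  rw [map_bcFst_assoc] at hk₃
  rw [map_el, map_el, Functor.map_comp, Category.assoc, Category.assoc, ← hu, ← hu', ← Functor.map_comp_assoc,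
    ← Functor.map_comp_assoc, ← h₁, ← hk₃]
  simp only [Functor.map_comp, Category.assoc]
  exact congrArg el (congrArg (_ ≫ ·) (congrArg (_ ≫ ·) (congrArg (_ ≫ ·)
    ((reassoc_of% (ha₀.rep.isPullback' a₀).w) (pullback.fst f b)))))

theorem surjLP_of_lfp {X Y : Sp S} (hX : IsAlgSpace X) (hY : IsAlgSpace Y) (f : X ⟶ Y)
    (hf : LocP @LocallyOfFinitePresentation f) : SurjLP f.hom := by
  intro I _ _ D c h i y x hxy
  obtain ⟨y, rfl⟩ := el.surjective y
  obtain ⟨x, rfl⟩ := el.surjective x
  have hxy' : x ≫ f = (yon S).map (c.π.app i) ≫ y :=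
    el.injective ((app_el f x).symm.trans (hxy.trans (map_el _ y)))
  have hinj : InjLP f.hom := injLP_of_lfp hX hY f hf
  obtain ⟨V, b, hb, hbs⟩ := hY.atlas
  obtain ⟨U, a₀, g, ha₀, has₀, hg⟩ := exists_chart_over hX hY f b
  have haX : RepWith @Etale (a₀ ≫ pullback.fst f b) := repWith_comp ha₀ (repWith_fst f hb)
  have : LocallyOfFinitePresentation g.left :=
    hf _ b g haX hb (by rw [Category.assoc, pullback.condition, ← Category.assoc, hg])
  have hP := isAlgSpace_pullback hX (IsAlgSpace.yon_obj V) hY f b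
  have := h.aff i
  obtain ⟨n, W, p, hp, hR⟩ := exists_cov_of_mem (homLiftSieve_mem hY hb hbs y)
  choose v hv using hR
  obtain ⟨W', l, e, he, hsq⟩ := exists_bc h hp
  refine surjPatch f.hom X.property (sep_of_isSheaf Y.property) hinj h hp he hsq (el y) (el x) fun m => ?_
  have := hp.aff m
  have hm := isSys_bc D (p m) (hsq m) h
  have := he.aff m
  let t : (yon S).obj (W' m) ⟶ pullback f b := pullback.lift ((yon S).map (e m) ≫ x) ((yon S).map (l m ≫ v m))
    (by rw [Category.assoc, hxy', Functor.map_comp, Category.assoc, hv, ← Functor.map_comp_assoc,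
      ← Functor.map_comp_assoc, show l m ≫ p m = e m ≫ c.π.app i from Over.OverMorphism.ext (hsq m).w])
  obtain ⟨n₂, U₂, q, hq, hR₂⟩ := exists_cov_of_mem (homLiftSieve_mem hP ha₀ has₀ t)
  choose u hu using hR₂
  obtain ⟨k, -, W₂, p', l', hp', hsq'⟩ := exists_stage_cov hm (show IsCov (T := (bcC D (p m) (hsq m)).pt) U₂ q from hq)
    (CategoryTheory.Over.mk (𝟙 i))
  obtain ⟨k', φ, z, hz, hzx⟩ := surjPatch f.hom X.property (sep_of_isSheaf Y.property) hinj hm hp'
    (show IsCov (T := (bcC D (p m) (hsq m)).pt) U₂ q from hq) hsq' (el ((yon S).map (bcFst D (p m) k ≫ v m) ≫ b))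
    (X.obj.map (e m).op (el x)) (fun t' => by
      have := hp'.aff t'
      have hw : l' t' ≫ p' t' = q t' ≫ bcπ D (p m) (hsq m) k := Over.OverMorphism.ext (hsq' t').w
      let k₁ : CategoryTheory.Over k := CategoryTheory.Over.mk (𝟙 k)
      have hug : u t' ≫ g = q t' ≫ l m ≫ v m := (yon S).map_injective (by
        rw [Functor.map_comp, ← hg, ← Category.assoc, hu, Category.assoc, pullback.lift_snd, ← Functor.map_comp])
      obtain ⟨k₂, φ₂, z, hz, hzu⟩ := exists_stage_over (isSys_bc _ (p' t') (hsq' t') hm) g (i := k₁)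
        (bcFst (bcD D (p m)) (p' t') k₁ ≫ p' t' ≫ bcFst D (p m) k ≫ v m) (u t') (hug.trans
          (((congrArg (q t' ≫ ·) (bcπ_fst_assoc D (p m) (hsq m) k (v m))).symm.trans
            ((reassoc_of% hw) (bcFst D (p m) k ≫ v m)).symm).trans
            (bcπ_fst_assoc (bcD D (p m)) (p' t') (hsq' t') k₁ _).symm))
      rw [map_bcFst_assoc] at hz
      refine ⟨k₂, el ((yon S).map z ≫ a₀ ≫ pullback.fst f b), ?_, ?_⟩
      · rw [app_el, map_el, Category.assoc, Category.assoc, pullback.condition, reassoc_of% hg,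
          ← Functor.map_comp_assoc, hz, ← Functor.map_comp_assoc]
        simp only [Category.assoc]
      · rw [map_el, map_el]
        refine Eq.trans ?_ (map_el (q t') ((yon S).map (e m) ≫ x)).symm
        refine congrArg el ?_
        rw [← Functor.map_comp_assoc,
          show bcπ (bcD D (p m)) (p' t') (hsq' t') k₂ ≫ z = u t' from hzu, ← Category.assoc, hu, Category.assoc,
          pullback.lift_fst])
  refine ⟨k', z, ?_, hzx⟩
  rw [hz, map_el, map_el, Functor.map_comp, Category.assoc, hv, Functor.map_comp, Category.assoc,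
    ← Functor.map_comp_assoc, map_bcFst]

end Groth.Agent.LimPresLib
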