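import Groth.Agent.LimPresLib.Model
import Groth.Agent.ConsPropLib.Cores
import Groth.Agent.LimSm.Flat
import Groth.Agent.MorLib.BaseChangeLim

/-!
# Systems of affine schemes over a base, their base changes and descent of coverings
-/

set_option autoImplicit false
set_option backward.isDefEq.respectTransparency false
set_option backward.isDefEq.respectTransparency.types false

universe u

open CategoryTheory Limits AlgebraicGeometry Topology Groth.Agent.MorLib

namespace Groth.Agent.LimPresLib

variable {S : Scheme.{u}} {I : Type u} [SmallCategory I] [IsCofiltered I] {D : I ⥤ Over S} {c : Cone D}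

/-- The system of schemes is one of affine schemes with affine limit. -/
structure IsSys (D : I ⥤ Over S) (c : Cone D) : Prop where
  lim : Nonempty (IsLimit ((Over.forget S).mapCone c))
  aff : ∀ i, IsAffine (D.obj i).left
  affpt : IsAffine c.pt.left

/-- A finite affine flat locally finitely presented covering family. -/
structure IsCov {ι : Type} [Finite ι] {T : Over S} (W : ι → Over S) (p : ∀ m, W m ⟶ T) : Prop where
  aff : ∀ m, IsAffine (W m).left
  flat : ∀ m, Flat (p m).left
  lfp : ∀ m, LocallyOfFinitePresentation (p m).left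
  surj : ∀ x : T.left, ∃ m, x ∈ Set.range (p m).left

section bc

variable (D)
variable {i : I} {W : Over S} (p : W ⟶ D.obj i)

/-- The base change of the system along a scheme over a stage. -/
noncomputable def bcD : Over i ⥤ Over S where
  obj k := Over.mk ((BC.toStart (D ⋙ Over.forget S) p.left).app k ≫ W.hom)
  map {k l} f := Over.homMk ((BC.diag (D ⋙ Over.forget S) p.left).map f) (by
    exact (Category.assoc _ _ _).symm.trans
      (congrArg (· ≫ W.hom) (BC.map_fst (D ⋙ Over.forget S) p.left f)))
  map_id k := Over.OverMorphism.ext ((BC.diag (D ⋙ Over.forget S) p.left).map_id k)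
  map_comp f g := Over.OverMorphism.ext ((BC.diag (D ⋙ Over.forget S) p.left).map_comp f g)

/-- The projection to the scheme over the stage. -/
noncomputable def bcFst (k : Over i) : (bcD D p).obj k ⟶ W :=
  Over.homMk ((BC.toStart (D ⋙ Over.forget S) p.left).app k) rfl

/-- The projection to the original system. -/
noncomputable def bcSnd (k : Over i) : (bcD D p).obj k ⟶ D.obj k.left :=
  Over.homMk ((BC.toBase (D ⋙ Over.forget S) p.left).app k) (by
    have h := BC.toStart_app_comp (D ⋙ Over.forget S) p.left k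
    refine Eq.trans ?_ (congrArg ((BC.toStart (D ⋙ Over.forget S) p.left).app k ≫ ·) (Over.w p))
    refine Eq.trans ?_ (Category.assoc _ _ _)
    refine Eq.trans ?_ (congrArg (· ≫ (D.obj i).hom) h.symm)
    refine Eq.trans ?_ (Category.assoc _ _ _).symm
    exact congrArg ((BC.toBase (D ⋙ Over.forget S) p.left).app k ≫ ·) (Over.w (D.map k.hom)).symm)

@[reassoc]
theorem map_bcFst {k l : Over i} (f : k ⟶ l) : (bcD D p).map f ≫ bcFst D p l = bcFst D p k :=
  Over.OverMorphism.ext (BC.map_fst (D ⋙ Over.forget S) p.left f)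

@[reassoc]
theorem map_bcSnd {k l : Over i} (f : k ⟶ l) :
    (bcD D p).map f ≫ bcSnd D p l = bcSnd D p k ≫ D.map f.left :=
  Over.OverMorphism.ext (BC.map_snd (D ⋙ Over.forget S) p.left f)

theorem bc_w (k : Over i) : bcFst D p k ≫ p = bcSnd D p k ≫ D.map k.hom :=
  Over.OverMorphism.ext (BC.toStart_app_comp (D ⋙ Over.forget S) p.left k)

theorem isPullback_bc (k : Over i) :
    IsPullback (bcFst D p k).left (bcSnd D p k).left p.left (D.map k.hom).left :=
  IsPullback.of_hasPullback p.left (D.map k.hom).left

variable {V : Over S} {l : V ⟶ W} {e : V ⟶ c.pt} (sq : IsPullback l.left e.left p.left (c.π.app i).left)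

/-- The base change of the limit. -/
noncomputable def bcC : Cone (bcD D p) where
  pt := V
  π :=
    { app := fun k => Over.homMk (BC.proj (D ⋙ Over.forget S) p.left (c := (Over.forget S).mapCone c) sq k) (by
        exact (Category.assoc _ _ _).symm.trans ((congrArg (· ≫ W.hom)
          (BC.proj_fst (D ⋙ Over.forget S) p.left (c := (Over.forget S).mapCone c) sq k)).trans (Over.w l)))
      naturality := fun k k' f => Over.OverMorphism.ext
        ((BC.cone (D ⋙ Over.forget S) p.left (c := (Over.forget S).mapCone c) sq).π.naturality f) }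

theorem bcC_π_fst (k : Over i) : (bcC D p sq).π.app k ≫ bcFst D p k = l :=
  Over.OverMorphism.ext (BC.proj_fst (D ⋙ Over.forget S) p.left (c := (Over.forget S).mapCone c) sq k)

theorem bcC_π_snd (k : Over i) : (bcC D p sq).π.app k ≫ bcSnd D p k = e ≫ c.π.app k.left :=
  Over.OverMorphism.ext (BC.proj_snd (D ⋙ Over.forget S) p.left (c := (Over.forget S).mapCone c) sq k)

/-- The projections of the base change of the limit. -/
noncomputable def bcπ (k : Over i) : V ⟶ (bcD D p).obj k := (bcC D p sq).π.app k

@[reassoc]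
theorem bcπ_fst (k : Over i) : bcπ D p sq k ≫ bcFst D p k = l := bcC_π_fst D p sq k

@[reassoc]
theorem bcπ_snd (k : Over i) : bcπ D p sq k ≫ bcSnd D p k = e ≫ c.π.app k.left := bcC_π_snd D p sq k

theorem bcπ_map {k k' : Over i} (f : k ⟶ k') : bcπ D p sq k ≫ (bcD D p).map f = bcπ D p sq k' :=
  (bcC D p sq).w f

theorem isPullback_bcπ (k : Over i) :
    IsPullback (bcπ D p sq k) e (bcSnd D p k) (c.π.app k.left) :=
  IsPullback.of_map (Over.forget S) (bcπ_snd D p sq k)
    (BC.isPullback_proj (D ⋙ Over.forget S) p.left (c := (Over.forget S).mapCone c) sq k)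

theorem isAffine_bcD (h : IsSys D c) [IsAffine W.left] (k : Over i) : IsAffine ((bcD D p).obj k).left := by
  have := h.aff i
  have := h.aff k.left
  have : IsAffineHom (bcSnd D p k).left :=
    MorphismProperty.of_isPullback (P := @IsAffineHom) (isPullback_bc D p k)
      (isAffineHom_of_isAffine p.left)
  exact isAffine_of_isAffineHom (bcSnd D p k).left

theorem isSys_bc (h : IsSys D c) [IsAffine W.left] : IsSys (bcD D p) (bcC D p sq) := by
  refine ⟨?_, isAffine_bcD D p h, ?_⟩
  · obtain ⟨hc⟩ := h.lim
    exact ⟨(BC.isLimitCone (D ⋙ Over.forget S) p.left sq hc).ofIsoLimit (Cone.ext (Iso.refl _) fun _ => by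
      exact (Category.id_comp _).symm)⟩
  · have := h.aff i
    have := h.affpt
    have : IsAffineHom e.left := MorphismProperty.of_isPullback (P := @IsAffineHom) sq
      (isAffineHom_of_isAffine p.left)
    exact isAffine_of_isAffineHom e.left

end bc

theorem isAffineHom_map (h : IsSys D c) {j k : I} (φ : j ⟶ k) : IsAffineHom ((D ⋙ Over.forget S).map φ) :=
  have : IsAffine ((D ⋙ Over.forget S).obj j) := h.aff j
  have : IsAffine ((D ⋙ Over.forget S).obj k) := h.aff k
  isAffineHom_of_isAffine _

/-- One member of a covering of the limit comes from a stage. -/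
theorem exists_stage_fp (h : IsSys D c) {V : Over S} [IsAffine V.left] (e : V ⟶ c.pt)
    [LocallyOfFinitePresentation e.left] :
    ∃ (i : I) (W : Over S) (p : W ⟶ D.obj i) (l : V ⟶ W), IsAffine W.left ∧
      LocallyOfFinitePresentation p.left ∧ IsPullback l.left e.left p.left (c.π.app i).left := by
  obtain ⟨hc⟩ := h.lim
  have := h.affpt
  have := IsCofiltered.isConnected I
  have : ∀ j, IsAffine ((D ⋙ Over.forget S).obj j) := h.aff
  have : ∀ {j k : I} (φ : j ⟶ k), IsAffineHom ((D ⋙ Over.forget S).map φ) := fun φ => isAffineHom_map h φ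
  obtain ⟨Y, U₀, q, π₀, q', hU₀, hY, hπ₀, hYfp, sq⟩ := exists_fp_affine_model e.left
  obtain ⟨i, g, hg, -⟩ := Scheme.exists_π_app_comp_eq_of_locallyOfFinitePresentation (D ⋙ Over.forget S)
    { app := fun j => terminal.from _, naturality := fun _ _ _ => terminalIsTerminal.hom_ext _ _ }
    (terminal.from Y) ((Over.forget S).mapCone c) hc q
    (by ext j; exact terminalIsTerminal.hom_ext _ _)
  let W : Over S := Over.mk (pullback.snd π₀ g ≫ (D.obj i).hom)
  let p : W ⟶ D.obj i := Over.homMk (pullback.snd π₀ g) rfl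
  have hg' : (c.π.app i).left ≫ g = q := hg
  let l₀ : V.left ⟶ pullback π₀ g := pullback.lift q' (e.left ≫ (c.π.app i).left)
    (by rw [Category.assoc, hg', sq.w])
  have hsq : IsPullback l₀ e.left (pullback.snd π₀ g) (c.π.app i).left :=
    IsPullback.of_right (by rw [pullback.lift_fst, hg']; exact sq) (pullback.lift_snd _ _ _)
      (IsPullback.of_hasPullback π₀ g)
  let l : V ⟶ W := Over.homMk l₀ (by
    change l₀ ≫ pullback.snd π₀ g ≫ (D.obj i).hom = V.hom
    rw [pullback.lift_snd_assoc, Category.assoc]
    exact (congrArg (e.left ≫ ·) (Over.w (c.π.app i))).trans (Over.w e))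
  exact ⟨i, W, p, l, inferInstanceAs (IsAffine (pullback π₀ g)),
    MorphismProperty.pullback_snd _ _ hπ₀, hsq⟩

/-- A covering of the limit comes from a covering of a stage. -/
theorem exists_stage_cov (h : IsSys D c) {ι : Type} [Finite ι] {V : ι → Over S} {e : ∀ m, V m ⟶ c.pt}
    (he : IsCov V e) (i₁ : I) :
    ∃ (i : I) (_ : i ⟶ i₁) (W : ι → Over S) (p : ∀ m, W m ⟶ D.obj i) (l : ∀ m, V m ⟶ W m),
      IsCov W p ∧ ∀ m, IsPullback (l m).left (e m).left (p m).left (c.π.app i).left := by
  classical
  obtain ⟨hc⟩ := h.lim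
  have : ∀ j, IsAffine ((D ⋙ Over.forget S).obj j) := h.aff
  have : ∀ {j k : I} (φ : j ⟶ k), IsAffineHom ((D ⋙ Over.forget S).map φ) := fun φ => isAffineHom_map h φ
  have h₁ : ∀ m, ∃ (i : I) (W : Over S) (p : W ⟶ D.obj i) (l : V m ⟶ W), IsAffine W.left ∧
      LocallyOfFinitePresentation p.left ∧ IsPullback l.left (e m).left p.left (c.π.app i).left := fun m =>
    have := he.aff m
    have := he.lfp m
    exists_stage_fp h (e m)
  choose i W p l hW hp hsq using h₁
  -- flatness at a stage
  have h₂ : ∀ m, ∃ (j : I) (φ : j ⟶ i m), Flat (pullback.snd (p m).left (D.map φ).left) := by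
    intro m
    have := hW m
    have := he.flat m
    exact LimSm.core_flat I (D ⋙ Over.forget S) ((Over.forget S).mapCone c) hc
      (fun a b f => isAffineHom_map h f) (i m) (h.aff _) (p m).left inferInstance inferInstance (hp m)
      (Desc.of_two @Flat (hsq m) (IsPullback.of_hasPullback _ _) (he.flat m))
  choose j φ hflat using h₂
  have := Fintype.ofFinite ι
  -- a common stage
  obtain ⟨k₀, hk₀⟩ := IsCofiltered.inf_objs_exists (insert i₁ (Finset.univ.image j))
  have ψ : ∀ m, Nonempty (k₀ ⟶ j m) := fun m => hk₀ (X := j m) (Finset.mem_insert_of_mem (Finset.mem_image_of_mem j (Finset.mem_univ m)))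
  obtain ⟨ψ₁⟩ := hk₀ (Finset.mem_insert_self i₁ _)
  let q : ∀ m, k₀ ⟶ i m := fun m => (ψ m).some ≫ φ m
  have hqsq : ∀ m, IsPullback (bcFst D (p m) (Over.mk (q m))).left
      (bcSnd D (p m) (Over.mk (q m))).left (p m).left (D.map (q m)).left := fun m => isPullback_bc D (p m) _
  have hqflat : ∀ m, Flat (bcSnd D (p m) (Over.mk (q m))).left := fun m =>
    Desc.of_factor @Flat (hflat m) (a := (D.map (ψ m).some).left)
      (by rw [← Over.comp_left, ← D.map_comp]) (hqsq m)
  have hqlfp : ∀ m, LocallyOfFinitePresentation (bcSnd D (p m) (Over.mk (q m))).left := fun m =>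
    MorphismProperty.of_isPullback (P := @LocallyOfFinitePresentation) (hqsq m) (hp m)
  -- joint surjectivity at a stage
  let B : Set ↥((D ⋙ Over.forget S).obj k₀) := ⋃ m, Set.range (bcSnd D (p m) (Over.mk (q m))).left
  have hB : IsConstructible B := by
    refine Topology.IsConstructible.iUnion fun m => ?_
    have := hW m
    have := isAffine_bcD D (p m) h (Over.mk (q m))
    have := hqlfp m
    have : IsAffine (D.obj (Over.mk (q m)).left).left := h.aff k₀
    have : IsAffineHom (bcSnd D (p m) (Over.mk (q m))).left := isAffineHom_of_isAffine _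
    rw [← Set.image_univ]
    exact (bcSnd D (p m) (Over.mk (q m))).left.isConstructible_image IsConstructible.univ
  obtain ⟨k, χ, hk⟩ := LimPro.exists_subset hc k₀ (A := Set.univ) (B := B) LimCons.pro_univ
    (EGA41Lib.lc_iff.1 hB.isLocallyConstructible).1 (fun s _ => by
      obtain ⟨m, x, rfl⟩ := he.surj s
      refine Set.mem_iUnion.2 ⟨m, ?_⟩
      let cc := bcC D (p m) (hsq m)
      refine ⟨(cc.π.app (Over.mk (q m))).left x, ?_⟩
      rw [← Scheme.Hom.comp_apply, ← Over.comp_left, bcC_π_snd]
      rfl)
  let r : ∀ m, Over (i m) := fun m => Over.mk (χ ≫ q m)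
  refine ⟨k, χ ≫ ψ₁, fun m => (bcD D (p m)).obj (r m), fun m => bcSnd D (p m) (r m),
    fun m => (bcC D (p m) (hsq m)).π.app (r m), ⟨fun m => ?_, fun m => ?_, fun m => ?_, fun x => ?_⟩, fun m => ?_⟩
  · have := hW m
    exact isAffine_bcD D (p m) h (r m)
  · exact Desc.of_factor @Flat (hflat m) (a := (D.map (χ ≫ (ψ m).some)).left)
      (by rw [← Over.comp_left, ← D.map_comp, Category.assoc]; rfl) (isPullback_bc D (p m) (r m))
  · exact MorphismProperty.of_isPullback (P := @LocallyOfFinitePresentation) (isPullback_bc D (p m) (r m)) (hp m)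
  · obtain ⟨m, y, hy⟩ := Set.mem_iUnion.1 (hk (Set.mem_univ x))
    refine ⟨m, ?_⟩
    let f : r m ⟶ Over.mk (q m) := Over.homMk χ rfl
    have sqf := BC.isPullback_map (D ⋙ Over.forget S) (p m).left f
    obtain ⟨z, -, hz⟩ := Scheme.exists_preimage_of_isPullback sqf y x hy
    exact ⟨z, hz⟩
  · exact BC.isPullback_proj (D ⋙ Over.forget S) (p m).left (c := (Over.forget S).mapCone c) (hsq m) (r m)

end Groth.Agent.LimPresLib
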